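import Mathlib
import Cfsg.Agent.Lib.PSLThree.Basic.Unip
import Cfsg.Agent.Lib.PSLThree.Trans.Frame
import Cfsg.Agent.Lib.Forms.Max.SL3.Singer.Fat

/-!
# Thin transvections in characteristic two: vocabulary

`Thin`: no two transvections have the same centre and the same axis.  `CenHyp`: commuting transvections
share their centre.  The contragredient exchanges centres and axes.
-/

set_option autoImplicit false
set_option linter.unusedSectionVars false
set_option linter.style.haveILetI false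

namespace Cfsg.Agent.PSLThree.Even

open Matrix
open Cfsg.Agent.Forms (Max.gl_ext)
open Cfsg.Agent.Forms.Max.SL3.Singer (Tr)

variable {F : Type*} [Field F] [Fintype F] {P : Subgroup (GL (Fin 3) F)}

local notation "GL3" => GL (Fin 3) F
local notation "Mat" => Matrix (Fin 3) (Fin 3) F
local notation "Vec" => Fin 3 → F

/-- every point is moved off every line -/
def Spread (P : Subgroup (GL (Fin 3) F)) : Prop :=
  ∀ u χ : Fin 3 → F, u ≠ 0 → χ ≠ 0 → ∃ g ∈ P, χ ⬝ᵥ ((g : Matrix (Fin 3) (Fin 3) F) *ᵥ u) ≠ 0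

/-- all root groups have at most two elements -/
def Thin (P : Subgroup (GL (Fin 3) F)) : Prop :=
  ∀ (u φ : Fin 3 → F) (c : F), u ≠ 0 → φ ≠ 0 → Tr P u φ → Tr P u (c • φ) → c = 0 ∨ c = 1

/-- commuting transvections share their centre -/
def CenHyp (P : Subgroup (GL (Fin 3) F)) : Prop :=
  ∀ u φ w ψ : Fin 3 → F, u ≠ 0 → φ ≠ 0 → w ≠ 0 → ψ ≠ 0 → Tr P u φ → Tr P w ψ →
    φ ⬝ᵥ w = 0 → ψ ⬝ᵥ u = 0 → ∃ c : F, w = c • u

theorem spread_of_irred (hirr : Cfsg.Geo.ActsIrreducibly (Cfsg.Geo.matrixSet P)) : Spread P :=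
  fun _ _ hu hχ => Trans.exists_conj_moved hirr hu hχ

theorem spread_conjg (h : Spread P) (T : GL3) : Spread (Trans.conjg T P) := fun u χ hu hχ => by
  obtain ⟨g, hg, h1⟩ := h (((T⁻¹ : GL3) : Mat) *ᵥ u) (χ ᵥ* (T : Mat)) (Forms.Max.mulVec_ne_zero _ hu)
    (fun e => hχ (by
      have := congrArg (· ᵥ* ((T⁻¹ : GL3) : Mat)) e
      simpa [vecMul_vecMul] using this))
  refine ⟨T * g * T⁻¹, Trans.conj_mem_conjg hg, ?_⟩
  rwa [Forms.Max.mulVec_mul_GL, Forms.Max.mulVec_mul_GL, dotProduct_mulVec]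

theorem tr_back {T : GL3} {u φ : Vec} (h : Tr (Trans.conjg T P) u φ) :
    Tr P (((T⁻¹ : GL3) : Mat) *ᵥ u) (φ ᵥ* (T : Mat)) := by
  refine (Trans.tr_conjg_iff T).1 ?_
  rwa [Forms.Max.mulVec_inv_cancel, vecMul_vecMul, ← Units.val_mul, mul_inv_cancel, Units.val_one, vecMul_one]

theorem vecMul_ne_zero (T : GL3) {φ : Vec} (hφ : φ ≠ 0) : φ ᵥ* (T : Mat) ≠ 0 := fun e => hφ (by
  have := congrArg (· ᵥ* ((T⁻¹ : GL3) : Mat)) e
  simpa [vecMul_vecMul] using this)

theorem thin_conjg (h : Thin P) (T : GL3) : Thin (Trans.conjg T P) := fun u φ c hu hφ h1 h2 =>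
  h _ _ c (Forms.Max.mulVec_ne_zero _ hu) (vecMul_ne_zero T hφ) (tr_back h1)
    (by rw [← smul_vecMul]; exact tr_back h2)

theorem cen_conjg (h : CenHyp P) (T : GL3) : CenHyp (Trans.conjg T P) := fun u φ w ψ hu hφ hw hψ h1 h2 h3 h4 => by
  obtain ⟨c, hc⟩ := h _ _ _ _ (Forms.Max.mulVec_ne_zero _ hu) (vecMul_ne_zero T hφ) (Forms.Max.mulVec_ne_zero _ hw)
    (vecMul_ne_zero T hψ) (tr_back h1) (tr_back h2)
    (by rw [← dotProduct_mulVec, Forms.Max.mulVec_inv_cancel, h3])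
    (by rw [← dotProduct_mulVec, Forms.Max.mulVec_inv_cancel, h4])
  refine ⟨c, Forms.Max.mulVec_inj T⁻¹ ?_⟩
  rw [hc, mulVec_smul]

/-- centres are never on the axes of other centres -/
theorem off_axis (hc : CenHyp P) {u φ w ψ : Vec} (hu : u ≠ 0) (hφ : φ ≠ 0) (hw : w ≠ 0) (hψ : ψ ≠ 0)
    (h1 : Tr P u φ) (h2 : Tr P w ψ) (hne : ∀ c : F, w ≠ c • u) : φ ⬝ᵥ w ≠ 0 := fun h0 => by
  by_cases hψu : ψ ⬝ᵥ u = 0
  · obtain ⟨c, hc⟩ := hc u φ w ψ hu hφ hw hψ h1 h2 h0 hψu
    exact hne c hc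
  · obtain ⟨c, hc⟩ := hc u φ w ((ψ ⬝ᵥ u) • φ) hu hφ hw (smul_ne_zero hψu hφ) h1 (h2.comm h1 h0) h0
      (by rw [smul_dotProduct, h1.1, smul_zero])
    exact hne c hc

variable [CharP F 2]

theorem two_zero : (2 : F) = 0 := by exact_mod_cast CharP.cast_eq_zero F 2

theorem add_self (a : F) : a + a = 0 := by linear_combination a * two_zero (F := F)

/-- involutions of a group of determinant one are transvections -/
theorem tr_of_invol (hP : P ≤ Cfsg.Geo.specialLinear (Fin 3) F) {g : GL3} (hg : g ∈ P) (h2 : g * g = 1)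
    (h1 : g ≠ 1) : ∃ u φ : Vec, u ≠ 0 ∧ φ ≠ 0 ∧ Tr P u φ ∧ (g : Mat) = 1 + vecMulVec u φ := by
  haveI : Fact (Nat.Prime 2) := ⟨Nat.prime_two⟩
  have hsq : ((g : Mat) - 1) * ((g : Mat) - 1) = 0 := by
    rw [← pow_two, sub_pow_char_of_commute (p := 2) (h := Commute.one_right _), one_pow, pow_two, ← Units.val_mul,
      h2, Units.val_one, sub_self]
  obtain ⟨u, φ, e⟩ := Cfsg.Agent.Forms.Max.SL3.SympType.exists_vecMulVec
    (Cfsg.Agent.Forms.Max.SL3.SympType.adjugate_of_sq_zero hsq)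
  have hgx : ∀ x, (g : Mat) *ᵥ x = x + (φ ⬝ᵥ x) • u := fun x => by
    have := congrArg (· *ᵥ x) e
    simp only [Matrix.sub_mulVec, one_mulVec, Matrix.vecMulVec_mulVec, op_smul_eq_smul] at this
    rw [← this]; abel
  have hd := det_of_act hgx
  rw [det_eq_one hP hg] at hd
  refine ⟨u, φ, fun h => h1 ?_, fun h => h1 ?_, ⟨left_eq_add.1 hd, g, hg, hgx⟩, by rw [← e]; abel⟩ <;>
    refine Units.ext ?_ <;> rw [Units.val_one, ← sub_eq_zero, e, h] <;> simp

/-- the element of a transvection -/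
theorem exists_elem {u φ : Vec} (h : Tr P u φ) :
    ∃ g ∈ P, (g : Mat) = 1 + vecMulVec u φ ∧ g * g = 1 := by
  obtain ⟨h0, g, hg, e⟩ := h
  have hg' : (g : Mat) = 1 + vecMulVec u φ := Matrix.ext_iff_mulVec.2 fun x => by
    rw [e, add_mulVec, one_mulVec, vecMulVec_mulVec, op_smul_eq_smul]
  refine ⟨g, hg, hg', Forms.Max.gl_ext fun x => ?_⟩
  rw [Forms.Max.mulVec_mul_GL, e, e, dotProduct_add, dotProduct_smul, h0, smul_zero, add_zero, Units.val_one,
    one_mulVec, add_assoc, ← add_smul, add_self, zero_smul, add_zero]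

omit [CharP F 2] in
/-- inverse transpose -/
def contra : GL (Fin 3) F →* GL (Fin 3) F :=
  MonoidHom.mk' (fun g => ⟨((g⁻¹ : GL (Fin 3) F) : Mat)ᵀ, (g : Mat)ᵀ,
    by rw [← transpose_mul, Units.mul_inv, transpose_one],
    by rw [← transpose_mul, Units.inv_mul, transpose_one]⟩)
    (fun a b => Units.ext (show (((a * b)⁻¹ : GL (Fin 3) F) : Mat)ᵀ = _ by
      rw [_root_.mul_inv_rev, Units.val_mul, transpose_mul]; rfl))

omit [CharP F 2] in
theorem coe_contra (g : GL3) : ((contra g : GL3) : Mat) = ((g⁻¹ : GL3) : Mat)ᵀ := rfl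

omit [CharP F 2] in
theorem contra_contra (g : GL3) : contra (contra g) = g := Units.ext (by
  rw [coe_contra, ← map_inv, coe_contra, inv_inv, transpose_transpose])

omit [CharP F 2] in
theorem map_contra_contra (P : Subgroup GL3) : (P.map contra).map contra = P := by
  ext g
  constructor
  · rintro ⟨_, ⟨h, hh, rfl⟩, rfl⟩
    rwa [contra_contra]
  · intro hg
    exact ⟨contra g, ⟨g, hg, rfl⟩, contra_contra g⟩

theorem tr_contra {u φ : Vec} (h : Tr P u φ) : Tr (P.map contra) φ u := by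
  obtain ⟨g, hg, e, e2⟩ := exists_elem h
  refine ⟨by rw [dotProduct_comm]; exact h.1, contra g, ⟨g, hg, rfl⟩, fun x => ?_⟩
  rw [coe_contra, inv_eq_of_mul_eq_one_right e2, e, transpose_add, transpose_one, transpose_vecMulVec, add_mulVec,
    one_mulVec, vecMulVec_mulVec, op_smul_eq_smul]

theorem tr_contra_back {u φ : Vec} (h : Tr (P.map contra) u φ) : Tr P φ u := by
  have := tr_contra h
  rwa [map_contra_contra] at this

omit [CharP F 2] in
theorem spread_contra (h : Spread P) : Spread (P.map contra) := fun u χ hu hχ => by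
  obtain ⟨g, hg, h1⟩ := h χ u hχ hu
  refine ⟨contra g⁻¹, ⟨g⁻¹, inv_mem hg, rfl⟩, ?_⟩
  rw [coe_contra, inv_inv, mulVec_transpose, dotProduct_comm, ← dotProduct_mulVec]
  exact h1

theorem thin_contra (h : Thin P) : Thin (P.map contra) := fun u φ c hu hφ h1 h2 => by
  by_cases hc : c = 0
  · exact Or.inl hc
  · exact h φ u c hφ hu (tr_contra_back h1) ((tr_contra_back h2).swap hc)

end Cfsg.Agent.PSLThree.Even
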