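import Mathlib
import Cfsg.Agent.Lib.PSLThree.Trans.Plane
import Cfsg.Agent.Lib.Forms.DicksonUni

/-!
# Two root groups in a plane, characteristic two, one of them of order at least four
-/

set_option autoImplicit false
set_option linter.unusedSectionVars false
set_option linter.style.haveILetI false

namespace Cfsg.Agent.PSLThree.Even.Plane

open MulAction Matrix
open Cfsg.Agent.Forms
open Cfsg.Agent.Classical.GL2 (uniSL lowSL coe_uniSL coe_lowSL uniSL_mul uniSL_zero)
open Cfsg.Agent.PSLThree.Trans.Plane (lowSL_mul lowSL_zero exists_smul_of_mk_eq conj_uni_apply conj_low_apply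
  exists_ne_zero_entry)
open scoped MatrixGroups

variable {F : Type*} [Field F] [Fintype F] [CharP F 2] {S : Subgroup SL(2, F)}

theorem neg_eq_self (X : SL(2, F)) : -X = X := Subtype.ext (by
  ext i j
  rw [Matrix.SpecialLinearGroup.coe_neg, Matrix.neg_apply, CharTwo.neg_eq])

theorem mem_of_pi_mem {X : SL(2, F)} (h : KleinPSL.pi F X ∈ S.map (KleinPSL.pi F)) : X ∈ S := by
  obtain ⟨Y, hY, e⟩ := Subgroup.mem_map.1 h
  rcases KleinPSL.pi_eq_iff.1 e with e' | e'
  · exact e' ▸ hY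
  · rw [neg_eq_self] at e'; exact e' ▸ hY

/-- the parameters fill a subfield -/
theorem classify {a lam : F} (ha0 : a ≠ 0) (ha1 : a ≠ 1) (hlam : lam ≠ 0) (h1 : uniSL (1 : F) ∈ S)
    (ha : uniSL a ∈ S) (hl : lowSL lam ∈ S) :
    ∃ K : Subfield F, lam ∈ K ∧ a ∈ K ∧ (∀ c : F, uniSL c ∈ S ↔ c ∈ K) ∧ ∀ c : F, lowSL c ∈ S ↔ c ∈ K := by
  classical
  haveI : Fact (Nat.Prime 2) := ⟨Nat.prime_two⟩
  let A : AddSubgroup F :=
    { carrier := {c | uniSL c ∈ S}
      zero_mem' := show uniSL (0 : F) ∈ S by rw [uniSL_zero]; exact one_mem _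
      add_mem' := fun {x y} hx hy => show uniSL (x + y) ∈ S by rw [← uniSL_mul]; exact mul_mem hx hy
      neg_mem' := fun {x} hx => show uniSL (-x) ∈ S by rw [CharTwo.neg_eq]; exact hx }
  have hind : a ∉ AddSubgroup.zmultiples (1 : F) := fun h => by
    obtain ⟨n, hn⟩ := AddSubgroup.mem_zmultiples_iff.1 h
    rw [zsmul_one] at hn
    rcases Int.even_or_odd n with ⟨k, rfl⟩ | ⟨k, rfl⟩
    · exact ha0 (by rw [← hn, Int.cast_add, CharTwo.add_self_eq_zero])
    · exact ha1 (by rw [← hn, Int.cast_add, Int.cast_mul, Int.cast_ofNat, CharTwo.two_eq_zero, zero_mul,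
        zero_add, Int.cast_one])
  obtain ⟨x, htr⟩ := DicksonUni.transitive 2 S A (fun c hc => hc) (a₁ := 1) h1 ha one_ne_zero hind hlam hl
  obtain ⟨K, iK, fK, m, f, γ, -, hlo, hhi⟩ := DicksonField.transitive_embedding 2 (S.map (KleinPSL.pi F)) htr
  haveI : CharP K 2 := (f.charP_iff_charP 2).2 inferInstance
  let K' : Subfield F := f.fieldRange
  have hrat : ∀ X : SL(2, F), X ∈ S →
      ∀ i j, ((γ * SpecialLinearGroup.toGL X * γ⁻¹ : GL (Fin 2) F) : Matrix (Fin 2) (Fin 2) F) i j ∈ K' := by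
    intro X hX i j
    have hm : ProjGenLinGroup.mk (γ * SpecialLinearGroup.toGL X * γ⁻¹) ∈ (DicksonField.pglMap f).range := by
      refine hhi ⟨_, ⟨_, ⟨X, hX, rfl⟩, rfl⟩, ?_⟩
      simp [KleinPSL.pi]
    obtain ⟨M, hM⟩ := hm
    obtain ⟨M, rfl⟩ := ProjGenLinGroup.mk_surjective M
    rw [DicksonField.pglMap_mk] at hM
    obtain ⟨r, -, hr⟩ := exists_smul_of_mk_eq hM
    obtain ⟨d, hd⟩ := FiniteField.isSquare_of_char_two (ringChar.eq K 2) (M : Matrix (Fin 2) (Fin 2) K).det
    have hdet := congrArg Matrix.det hr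
    have hfd : (GeneralLinearGroup.map f M : Matrix (Fin 2) (Fin 2) F).det = f d * f d := by
      rw [← map_mul, ← hd, RingHom.map_det]; rfl
    rw [det_smul, Fintype.card_fin, hfd, Units.val_mul, Units.val_mul, Matrix.det_units_conj,
      show ((SpecialLinearGroup.toGL X : GL (Fin 2) F) : Matrix (Fin 2) (Fin 2) F).det = 1 from X.2] at hdet
    have h0 : (r * f d - 1) * (r * f d - 1) = 0 := by
      linear_combination -hdet + (1 - r * f d) * (CharTwo.two_eq_zero : (2 : F) = 0)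
    have hrd : r * f d = 1 := sub_eq_zero.1 ((mul_eq_zero.1 h0).elim id id)
    have hrK : r ∈ K' := by
      rw [eq_inv_of_mul_eq_one_left hrd]
      exact inv_mem ⟨d, rfl⟩
    rw [hr, Matrix.smul_apply, smul_eq_mul]
    exact mul_mem hrK ⟨_, rfl⟩
  have huK : ∀ c : F, uniSL c ∈ S → ∀ i j,
      c * ((γ : Matrix (Fin 2) (Fin 2) F) i 0 * ((γ⁻¹ : GL (Fin 2) F) : Matrix (Fin 2) (Fin 2) F) 1 j) ∈ K' := by
    intro c hc i j
    have := hrat _ hc i j
    rw [conj_uni_apply] at this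
    simpa using sub_mem this (show (1 : Matrix (Fin 2) (Fin 2) F) i j ∈ K' by
      rw [Matrix.one_apply]; split_ifs <;> simp)
  have hlK : ∀ c : F, lowSL c ∈ S → ∀ i j,
      c * ((γ : Matrix (Fin 2) (Fin 2) F) i 1 * ((γ⁻¹ : GL (Fin 2) F) : Matrix (Fin 2) (Fin 2) F) 0 j) ∈ K' := by
    intro c hc i j
    have := hrat _ hc i j
    rw [conj_low_apply] at this
    simpa using sub_mem this (show (1 : Matrix (Fin 2) (Fin 2) F) i j ∈ K' by
      rw [Matrix.one_apply]; split_ifs <;> simp)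
  obtain ⟨i, j, hij⟩ := exists_ne_zero_entry γ 0 1
  obtain ⟨i', j', hij'⟩ := exists_ne_zero_entry γ 1 0
  have hlamK : lam ∈ K' := by
    have hU := hrat _ h1
    have hL := hrat _ hl
    have htr : (((γ * SpecialLinearGroup.toGL (uniSL (1 : F)) * γ⁻¹) *
        (γ * SpecialLinearGroup.toGL (lowSL lam) * γ⁻¹) : GL (Fin 2) F) :
        Matrix (Fin 2) (Fin 2) F).trace ∈ K' := by
      rw [Units.val_mul, Matrix.trace_fin_two]
      refine add_mem ?_ ?_ <;> rw [Matrix.mul_apply, Fin.sum_univ_two] <;>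
        exact add_mem (mul_mem (hU _ _) (hL _ _)) (mul_mem (hU _ _) (hL _ _))
    rw [show (γ * SpecialLinearGroup.toGL (uniSL (1 : F)) * γ⁻¹) *
        (γ * SpecialLinearGroup.toGL (lowSL lam) * γ⁻¹) =
        γ * (SpecialLinearGroup.toGL (uniSL (1 : F)) * SpecialLinearGroup.toGL (lowSL lam)) * γ⁻¹ by group,
      Units.val_mul, Units.val_mul, Matrix.trace_units_conj] at htr
    have e2 : ((SpecialLinearGroup.toGL (uniSL (1 : F)) * SpecialLinearGroup.toGL (lowSL lam) : GL (Fin 2) F) :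
        Matrix (Fin 2) (Fin 2) F).trace = 2 + lam := by
      show ((uniSL (1 : F) : Matrix (Fin 2) (Fin 2) F) * (lowSL lam : Matrix (Fin 2) (Fin 2) F)).trace = _
      rw [coe_uniSL, coe_lowSL, Matrix.mul_fin_two, Matrix.trace_fin_two]
      simp; ring
    rw [e2] at htr
    simpa using sub_mem htr (ofNat_mem K' 2)
  have hback : ∀ X : SL(2, F),
      (∀ a b, ((γ * SpecialLinearGroup.toGL X * γ⁻¹ : GL (Fin 2) F) : Matrix (Fin 2) (Fin 2) F) a b ∈ K') →
      X ∈ S := by
    intro X hK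
    choose M hM using fun a b => hK a b
    have hMX : (Matrix.of M).map f =
        ((γ * SpecialLinearGroup.toGL X * γ⁻¹ : GL (Fin 2) F) : Matrix (Fin 2) (Fin 2) F) := by
      ext a b; exact hM a b
    have hdet : (Matrix.of M).det = 1 := f.injective (by
      rw [RingHom.map_det, RingHom.mapMatrix_apply, hMX, map_one, Units.val_mul, Units.val_mul,
        Matrix.det_units_conj]
      exact X.2)
    refine mem_of_pi_mem ?_
    let M0 : SpecialLinearGroup (Fin 2) K := ⟨Matrix.of M, hdet⟩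
    obtain ⟨_, ⟨z, hz, rfl⟩, hz'⟩ := hlo ⟨_, ⟨QuotientGroup.mk M0, rfl⟩, rfl⟩
    have e2 : DicksonField.pglMap f (Matrix.ProjectiveSpecialLinearGroup.toPGL
        (QuotientGroup.mk M0)) =
        ProjGenLinGroup.mk (γ * SpecialLinearGroup.toGL X * γ⁻¹) := by
      rw [Matrix.ProjectiveSpecialLinearGroup.toPGL_mk, DicksonField.pglMap_mk]
      exact congrArg _ (Units.ext hMX)
    rw [e2, map_mul, map_mul, map_inv] at hz'
    have e3 : Matrix.ProjectiveSpecialLinearGroup.toPGL z =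
        Matrix.ProjectiveSpecialLinearGroup.toPGL (KleinPSL.pi F X) := by
      have h4 : Matrix.ProjectiveSpecialLinearGroup.toPGL (KleinPSL.pi F X) =
          ProjGenLinGroup.mk (SpecialLinearGroup.toGL X) := Matrix.ProjectiveSpecialLinearGroup.toPGL_mk _
      rw [h4]
      exact (MulAut.conj (ProjGenLinGroup.mk γ)).injective (by simpa using hz')
    exact Matrix.ProjectiveSpecialLinearGroup.toPGL_injective e3 ▸ hz
  have hA : ∀ c : F, uniSL c ∈ S ↔ c ∈ K' := fun c => by
    refine ⟨fun hc => ?_, fun hc => hback _ fun x y => ?_⟩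
    · have h5 := K'.div_mem (huK c hc i j) (huK 1 h1 i j)
      rwa [one_mul, mul_div_cancel_right₀ _ hij] at h5
    · rw [conj_uni_apply]
      refine add_mem (by rw [Matrix.one_apply]; split_ifs <;> simp) (mul_mem hc ?_)
      simpa using huK 1 h1 x y
  refine ⟨K', hlamK, (hA a).1 ha, hA, fun c => ⟨fun hc => ?_, fun hc => hback _ fun x y => ?_⟩⟩
  · have h5 := mul_mem hlamK (K'.div_mem (hlK c hc i' j') (hlK lam hl i' j'))
    rwa [mul_div_mul_right _ _ hij', mul_div_cancel₀ _ hlam] at h5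
  · rw [conj_low_apply]
    refine add_mem (by rw [Matrix.one_apply]; split_ifs <;> simp) ?_
    have := mul_mem (K'.div_mem hc hlamK) (hlK lam hl x y)
    rwa [← mul_assoc, div_mul_cancel₀ _ hlam] at this

end Cfsg.Agent.PSLThree.Even.Plane
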