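import Mathlib
import Cfsg.Agent.Lib.PSLThree.Even.Basic
import Cfsg.Agent.Lib.PSLThree.Even.Plane

/-!
# The group on a line through two centres

In a frame with centres at the first two basis vectors, the elements fixing the third functional act
faithfully on the line; the values of the axes of one centre at the other fill a subfield.
-/

set_option autoImplicit false
set_option linter.unusedSectionVars false
set_option linter.style.haveILetI false

namespace Cfsg.Agent.PSLThree.Even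

open Matrix
open scoped MatrixGroups
open Cfsg.Agent.Forms.Max.SL3.Singer (Tr)
open Cfsg.Agent.Classical.GL2 (uniSL lowSL coe_uniSL coe_lowSL uniSL_mul uniSL_zero)

variable {F : Type*} [Field F] [Fintype F] {P : Subgroup (GL (Fin 3) F)}

local notation "GL3" => GL (Fin 3) F
local notation "Mat" => Matrix (Fin 3) (Fin 3) F
local notation "Vec" => Fin 3 → F
local notation "E0" => (Pi.single 0 1 : Fin 3 → F)
local notation "E1" => (Pi.single 1 1 : Fin 3 → F)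
local notation "E2" => (Pi.single 2 1 : Fin 3 → F)

/-- the elements fixing the third functional -/
def lineGrp (P : Subgroup (GL (Fin 3) F)) : Subgroup (GL (Fin 3) F) where
  carrier := {g | g ∈ P ∧ (Pi.single 2 1 : Fin 3 → F) ᵥ* (g : Matrix (Fin 3) (Fin 3) F) = Pi.single 2 1}
  one_mem' := ⟨one_mem _, by rw [Units.val_one, vecMul_one]⟩
  mul_mem' := fun {a b} ha hb => ⟨mul_mem ha.1 hb.1, by rw [Units.val_mul, ← vecMul_vecMul, ha.2, hb.2]⟩
  inv_mem' := fun {a} ha => ⟨inv_mem ha.1, by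
    nth_rw 1 [← ha.2]
    rw [vecMul_vecMul, Units.mul_inv, vecMul_one]⟩

theorem row_two {g : GL3} (hg : g ∈ lineGrp P) :
    (g : Mat) 2 0 = 0 ∧ (g : Mat) 2 1 = 0 ∧ (g : Mat) 2 2 = 1 := by
  refine ⟨?_, ?_, ?_⟩
  · simpa using congrFun hg.2 0
  · simpa using congrFun hg.2 1
  · simpa using congrFun hg.2 2

theorem block_det (hP : P ≤ Cfsg.Geo.specialLinear (Fin 3) F) {g : GL3} (hg : g ∈ lineGrp P) :
    (g : Mat) 0 0 * (g : Mat) 1 1 - (g : Mat) 0 1 * (g : Mat) 1 0 = 1 := by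
  obtain ⟨h0, h1, h2⟩ := row_two hg
  have hd := det_eq_one hP hg.1
  rw [det_fin_three, h0, h1, h2] at hd
  linear_combination hd

/-- the restriction to the line -/
def restr (hP : P ≤ Cfsg.Geo.specialLinear (Fin 3) F) : ↥(lineGrp P) →* SL(2, F) :=
  MonoidHom.mk' (fun g => ⟨!![(g.1 : Mat) 0 0, (g.1 : Mat) 0 1; (g.1 : Mat) 1 0, (g.1 : Mat) 1 1], by
      rw [det_fin_two]; simpa using block_det hP g.2⟩)
    (fun a b => Subtype.ext (by
      obtain ⟨b0, b1, b2⟩ := row_two b.2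
      show (!![((a.1 * b.1 : GL3) : Mat) 0 0, ((a.1 * b.1 : GL3) : Mat) 0 1; ((a.1 * b.1 : GL3) : Mat) 1 0,
          ((a.1 * b.1 : GL3) : Mat) 1 1] : Matrix (Fin 2) (Fin 2) F) =
        !![(a.1 : Mat) 0 0, (a.1 : Mat) 0 1; (a.1 : Mat) 1 0, (a.1 : Mat) 1 1] *
          !![(b.1 : Mat) 0 0, (b.1 : Mat) 0 1; (b.1 : Mat) 1 0, (b.1 : Mat) 1 1]
      ext i j
      fin_cases i <;> fin_cases j <;> simp [Matrix.mul_apply, Fin.sum_univ_three, b0, b1]))

theorem restr_coe (hP : P ≤ Cfsg.Geo.specialLinear (Fin 3) F) (g : ↥(lineGrp P)) :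
    ((restr hP g : SL(2, F)) : Matrix (Fin 2) (Fin 2) F) =
      !![(g.1 : Mat) 0 0, (g.1 : Mat) 0 1; (g.1 : Mat) 1 0, (g.1 : Mat) 1 1] := rfl

theorem axis_coord {v φ : Vec} {i : Fin 3} (hv : v = Pi.single i 1) (h : Tr P v φ) : φ i = 0 := by
  have := h.1
  rw [hv, dotProduct_single_one] at this
  exact this

theorem single_ne {i j : Fin 3} (hij : i ≠ j) (c : F) : (Pi.single j 1 : Vec) ≠ c • Pi.single i 1 := fun e => by
  simpa [Pi.single_eq_of_ne hij.symm] using congrFun e j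

variable [CharP F 2]

theorem elem_mem_lineGrp {i : Fin 3} (hi : i ≠ 2) {φ : Vec} (h : Tr P (Pi.single i 1) φ) :
    ∃ g ∈ lineGrp P, (g : Mat) = 1 + vecMulVec (Pi.single i 1) φ := by
  obtain ⟨g, hg, e, -⟩ := exists_elem h
  refine ⟨g, ⟨hg, ?_⟩, e⟩
  rw [e, vecMul_add, vecMul_one, vecMul_vecMulVec]
  simp [Pi.single_eq_of_ne hi]

/-- hypotheses on the frame -/
structure Frm (P : Subgroup (GL (Fin 3) F)) where
  le : P ≤ Cfsg.Geo.specialLinear (Fin 3) F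
  cen : CenHyp P
  ax0 : ∃ φ : Fin 3 → F, φ ≠ 0 ∧ Tr P (Pi.single 0 1) φ
  ax1 : ∃ φ : Fin 3 → F, φ ≠ 0 ∧ Tr P (Pi.single 1 1) φ

/-- the restriction is faithful -/
theorem restr_injective (H : Frm P) : Function.Injective (restr H.le) := by
  rw [injective_iff_map_eq_one]
  rintro ⟨g, hg⟩ h1
  have hm : ((restr H.le ⟨g, hg⟩ : SL(2, F)) : Matrix (Fin 2) (Fin 2) F) = 1 := by
    rw [h1, Matrix.SpecialLinearGroup.coe_one]
  rw [restr_coe] at hm
  have g00 : (g : Mat) 0 0 = 1 := by simpa using congrFun (congrFun hm 0) 0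
  have g01 : (g : Mat) 0 1 = 0 := by simpa using congrFun (congrFun hm 0) 1
  have g10 : (g : Mat) 1 0 = 0 := by simpa using congrFun (congrFun hm 1) 0
  have g11 : (g : Mat) 1 1 = 1 := by simpa using congrFun (congrFun hm 1) 1
  obtain ⟨g20, g21, g22⟩ := row_two hg
  obtain ⟨va, hva⟩ : ∃ va, (g : Mat) 0 2 = va := ⟨_, rfl⟩
  obtain ⟨vb, hvb⟩ : ∃ vb, (g : Mat) 1 2 = vb := ⟨_, rfl⟩
  have e : (g : Mat) = 1 + vecMulVec ![va, vb, 0] E2 := by
    ext i j
    rw [Matrix.add_apply, vecMulVec_apply]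
    fin_cases i <;> fin_cases j <;> simp [g00, g01, g10, g11, g20, g21, g22, hva, hvb]
  by_contra hne
  have hv0 : (![va, vb, 0] : Vec) ≠ 0 := fun hv => hne (Subtype.ext (Units.ext (by
    show (g : Mat) = ((1 : GL3) : Mat)
    rw [e, hv, zero_vecMulVec, add_zero, Units.val_one])))
  have ht : Tr P ![va, vb, 0] E2 := ⟨by simp, g, hg.1, fun x => by
    rw [e, add_mulVec, one_mulVec, vecMulVec_mulVec, op_smul_eq_smul]⟩
  obtain ⟨φ, hφ, hφ'⟩ := H.ax0
  obtain ⟨ψ, hψ, hψ'⟩ := H.ax1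
  have hE2 : E2 ≠ 0 := by simp
  by_cases hp : ∀ c : F, E0 ≠ c • ![va, vb, 0]
  · exact off_axis H.cen hv0 hE2 (by simp) hφ ht hφ' hp (by simp)
  · push Not at hp
    obtain ⟨c, hc⟩ := hp
    refine off_axis H.cen hv0 hE2 (by simp) hψ ht hψ' (fun d hd => ?_) (by simp)
    have hc0 : c ≠ 0 := fun h0 => by simp [h0] at hc
    refine single_ne (i := (0 : Fin 3)) (j := 1) (by decide) (d * c⁻¹) (hd.trans ?_)
    rw [hc, smul_smul, mul_assoc, inv_mul_cancel₀ hc0, mul_one]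

/-- an element inducing `uniSL c` is a transvection with centre the first point -/
theorem axis_of_uni (H : Frm P) {g : GL3} (hg : g ∈ lineGrp P) {c : F}
    (h : restr H.le ⟨g, hg⟩ = uniSL c) : ∃ φ : Vec, Tr P E0 φ ∧ φ 1 = c := by
  have hsq : g * g = 1 := by
    refine congrArg Subtype.val (restr_injective H (a₁ := ⟨g, hg⟩ * ⟨g, hg⟩) (a₂ := 1) ?_)
    rw [map_mul, map_one, h, uniSL_mul, add_self, uniSL_zero]
  rcases eq_or_ne g 1 with rfl | h1
  · have h' : uniSL c = 1 := by rw [← h]; exact map_one (restr H.le)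
    have := congrFun (congrFun (congrArg Subtype.val h') 0) 1
    exact ⟨0, Trans.tr_zero _, by simpa [coe_uniSL] using this.symm⟩
  obtain ⟨v, χ, hv, hχ, ht, e⟩ := tr_of_invol H.le hg.1 hsq h1
  have hm := congrArg Subtype.val h
  rw [restr_coe, coe_uniSL] at hm
  obtain ⟨g20, g21, -⟩ := row_two hg
  have g00 : (g : Mat) 0 0 = 1 := by simpa using congrFun (congrFun hm 0) 0
  have g01 : (g : Mat) 0 1 = c := by simpa using congrFun (congrFun hm 0) 1
  have g10 : (g : Mat) 1 0 = 0 := by simpa using congrFun (congrFun hm 1) 0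
  have g11 : (g : Mat) 1 1 = 1 := by simpa using congrFun (congrFun hm 1) 1
  rw [e] at g00 g10 g20 g01 g11 g21
  simp [vecMulVec_apply] at g00 g10 g20 g01 g11 g21
  have hχ0 : χ 0 = 0 := by
    by_contra hne
    exact hv (funext fun i => by
      fin_cases i
      · exact g00.resolve_right hne
      · exact g10.resolve_right hne
      · exact g20.resolve_right hne)
  rcases eq_or_ne c 0 with rfl | hc
  · exact ⟨0, Trans.tr_zero _, rfl⟩
  have hv0 : v 0 ≠ 0 := fun h0 => hc (by rw [← g01, h0, zero_mul])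
  have hχ1 : χ 1 ≠ 0 := fun h0 => hc (by rw [← g01, h0, mul_zero])
  have hv1 : v 1 = 0 := g11.resolve_right hχ1
  have hv2 : v 2 = 0 := g21.resolve_right hχ1
  have hvE : v = v 0 • E0 := funext fun i => by fin_cases i <;> simp [hv1, hv2]
  exact ⟨v 0 • χ, (hvE ▸ ht).swap hv0, by simp [g01]⟩

theorem uni_mem (H : Frm P) {φ : Vec} (h : Tr P E0 φ) : uniSL (φ 1) ∈ (restr H.le).range := by
  obtain ⟨g, hg, e⟩ := elem_mem_lineGrp (i := 0) (by decide) h
  refine ⟨⟨g, hg⟩, Subtype.ext ?_⟩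
  rw [restr_coe, coe_uniSL]
  have h0 := axis_coord rfl h
  show !![(g : Mat) 0 0, (g : Mat) 0 1; (g : Mat) 1 0, (g : Mat) 1 1] = _
  rw [e]
  ext i j
  fin_cases i <;> fin_cases j <;> simp [vecMulVec_apply, h0]

theorem low_mem (H : Frm P) {φ : Vec} (h : Tr P E1 φ) : lowSL (φ 0) ∈ (restr H.le).range := by
  obtain ⟨g, hg, e⟩ := elem_mem_lineGrp (i := 1) (by decide) h
  refine ⟨⟨g, hg⟩, Subtype.ext ?_⟩
  rw [restr_coe, coe_lowSL]
  have h0 := axis_coord rfl h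
  show !![(g : Mat) 0 0, (g : Mat) 0 1; (g : Mat) 1 0, (g : Mat) 1 1] = _
  rw [e]
  ext i j
  fin_cases i <;> fin_cases j <;> simp [vecMulVec_apply, h0]

/-- the field of the line, and the whole of `SL₂` over it -/
theorem line_field (H : Frm P) {φ₁ φ₂ : Vec} (h1 : Tr P E0 φ₁) (e1 : φ₁ 1 = 1) (h2 : Tr P E0 φ₂)
    (a0 : φ₂ 1 ≠ 0) (a1 : φ₂ 1 ≠ 1) :
    ∃ K : Subfield F, φ₂ 1 ∈ K ∧ (∀ c : F, (∃ φ, Tr P E0 φ ∧ φ 1 = c) ↔ c ∈ K) ∧
      ∀ c ∈ K, uniSL c ∈ (restr H.le).range ∧ lowSL c ∈ (restr H.le).range := by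
  obtain ⟨ψ, hψ, hψt⟩ := H.ax1
  have hψ0 : ψ 0 ≠ 0 := by
    have := off_axis H.cen (w := E0) (by simp) hψ (by simp) (fun e => by simp [e] at e1) hψt h1
      (single_ne (by decide))
    simpa using this
  obtain ⟨K, -, ha, hu, hl⟩ := Plane.classify (S := (restr H.le).range) a0 a1 hψ0 (e1 ▸ uni_mem H h1)
    (uni_mem H h2) (low_mem H hψt)
  refine ⟨K, ha, fun c => ⟨?_, fun hc => ?_⟩, fun c hc => ⟨(hu c).2 hc, (hl c).2 hc⟩⟩
  · rintro ⟨φ, hφ, rfl⟩
    exact (hu _).1 (uni_mem H hφ)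
  · obtain ⟨⟨g, hg⟩, e⟩ := (hu c).2 hc
    exact axis_of_uni H hg e

theorem exists_frame_of_pair {u w : Vec} (hu : u ≠ 0) (hw : ∀ c : F, w ≠ c • u) :
    ∃ T : GL3, (T : Mat) *ᵥ u = E0 ∧ (T : Mat) *ᵥ w = E1 := by
  have hli : LinearIndependent F ![u, w] := (LinearIndependent.pair_iff' hu).2 fun c h => hw c h.symm
  obtain ⟨z, hz⟩ : ∃ z, z ∉ Submodule.span F (Set.range ![u, w]) := by
    by_contra hc
    push Not at hc
    have h := finrank_span_eq_card hli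
    rw [(eq_top_iff.2 fun x _ => hc x : Submodule.span F (Set.range ![u, w]) = ⊤), finrank_top,
      Module.finrank_fintype_fun_eq_card] at h
    simp at h
  have h3 : LinearIndependent F ![u, w, z] := by
    have := hli.finSnoc hz
    have e : (Fin.snoc ![u, w] z : Fin 3 → Vec) = ![u, w, z] := by
      funext i
      fin_cases i <;> rfl
    exact e ▸ this
  let Q : Mat := Matrix.of fun i k => ![u, w, z] k i
  obtain ⟨T, hT⟩ := (Matrix.linearIndependent_cols_iff_isUnit (A := Q)).1 h3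
  refine ⟨T⁻¹, Forms.Max.mulVec_inj T ?_, Forms.Max.mulVec_inj T ?_⟩ <;>
    rw [Forms.Max.mulVec_inv_cancel, mulVec_single_one] <;> funext i <;> simp [hT, Q, Matrix.col]

/-- the values at one centre of the axes of another fill a subfield -/
theorem value_field (hP : P ≤ Cfsg.Geo.specialLinear (Fin 3) F) (hc : CenHyp P) {u w φ₁ φ₂ ψ : Vec}
    (hu : u ≠ 0) (hw : ∀ c : F, w ≠ c • u) (hψ : ψ ≠ 0) (hwt : Tr P w ψ) (h1 : Tr P u φ₁)
    (e1 : φ₁ ⬝ᵥ w = 1) (h2 : Tr P u φ₂) (a0 : φ₂ ⬝ᵥ w ≠ 0) (a1 : φ₂ ⬝ᵥ w ≠ 1) :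
    ∃ K : Subfield F, ∀ c : F, (∃ φ, Tr P u φ ∧ φ ⬝ᵥ w = c) ↔ c ∈ K := by
  obtain ⟨T, hTu, hTw⟩ := exists_frame_of_pair hu hw
  have hval : ∀ χ : Vec, (χ ᵥ* ((T⁻¹ : GL3) : Mat)) 1 = χ ⬝ᵥ w := fun χ => by
    rw [← dotProduct_single_one (χ ᵥ* _) 1, ← hTw, ← dotProduct_mulVec, Forms.Max.inv_mulVec_cancel]
  have htr : ∀ {v χ}, Tr P v χ → Tr (Trans.conjg T P) ((T : Mat) *ᵥ v) (χ ᵥ* ((T⁻¹ : GL3) : Mat)) :=
    Trans.tr_conjg T
  have H : Frm (Trans.conjg T P) :=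
    { le := by
        rintro g ⟨x, hx, rfl⟩
        refine MonoidHom.mem_ker.2 ?_
        have := MonoidHom.mem_ker.1 (hP hx)
        simp [this]
      cen := cen_conjg hc T
      ax0 := ⟨_, vecMul_ne_zero T⁻¹ (fun e => by simp [e] at e1), hTu ▸ htr h1⟩
      ax1 := ⟨_, vecMul_ne_zero T⁻¹ hψ, hTw ▸ htr hwt⟩ }
  obtain ⟨K, -, hK, -⟩ := line_field H (hTu ▸ htr h1) ((hval _).trans e1) (hTu ▸ htr h2) (by rwa [hval]) (by rwa [hval])
  refine ⟨K, fun c => (Iff.intro ?_ ?_).trans (hK c)⟩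
  · rintro ⟨φ, hφ, rfl⟩
    exact ⟨_, hTu ▸ htr hφ, hval φ⟩
  · rintro ⟨φ, hφ, rfl⟩
    refine ⟨φ ᵥ* (T : Mat), ?_, ?_⟩
    · have := tr_back hφ
      rwa [← hTu, Forms.Max.inv_mulVec_cancel] at this
    · rw [← dotProduct_mulVec, hTw, dotProduct_single_one]

end Cfsg.Agent.PSLThree.Even
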