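import Mathlib
import Cfsg.Agent.Lib.PSLThree.Even.Line
import Cfsg.Agent.Lib.PSLThree.Rep.Descent

/-!
# Thin transvections: no two axes at one centre when commuting transvections share the centre
-/

set_option autoImplicit false
set_option linter.unusedSectionVars false
set_option linter.style.haveILetI false
set_option linter.unnecessarySeqFocus false

namespace Cfsg.Agent.PSLThree.Even

open Matrix
open scoped MatrixGroups
open Cfsg.Agent.Forms.Max.SL3.Singer (Tr Tr.smul_centre)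
open Cfsg.Agent.Classical.GL2 (uniSL lowSL coe_uniSL coe_lowSL)

variable {F : Type*} [Field F] [Fintype F] [CharP F 2] {P : Subgroup (GL (Fin 3) F)}

local notation "GL3" => GL (Fin 3) F
local notation "Mat" => Matrix (Fin 3) (Fin 3) F
local notation "Vec" => Fin 3 → F
local notation "E0" => (Pi.single 0 1 : Fin 3 → F)
local notation "E1" => (Pi.single 1 1 : Fin 3 → F)
local notation "E2" => (Pi.single 2 1 : Fin 3 → F)

theorem weyl_prod {t : F} (ht : t ≠ 0) :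
    ((uniSL t * lowSL t⁻¹ * uniSL t : SL(2, F)) : Matrix (Fin 2) (Fin 2) F) = !![0, t; t⁻¹, 0] := by
  rw [Matrix.SpecialLinearGroup.coe_mul, Matrix.SpecialLinearGroup.coe_mul, coe_uniSL, coe_lowSL,
    Matrix.mul_fin_two, Matrix.mul_fin_two]
  simp [CharTwo.add_self_eq_zero, mul_inv_cancel₀ ht, inv_mul_cancel₀ ht]

theorem diag_prod {t : F} (ht : t ≠ 0) :
    ((uniSL t * lowSL t⁻¹ * uniSL t * (uniSL 1 * lowSL 1 * uniSL 1) : SL(2, F)) : Matrix (Fin 2) (Fin 2) F) =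
      !![t, 0; 0, t⁻¹] := by
  have h1 := weyl_prod (F := F) (t := 1) one_ne_zero
  rw [inv_one] at h1
  rw [Matrix.SpecialLinearGroup.coe_mul, weyl_prod ht, h1, Matrix.mul_fin_two]
  simp

/-- a coordinate of a centre off the plane vanishes -/
theorem coord_zero (hP : P ≤ Cfsg.Geo.specialLinear (Fin 3) F) (hc : CenHyp P) {i j : Fin 3} (hij : i ≠ j)
    (hi : i ≠ 2) (hj : j ≠ 2) {K : Subfield F} {β lam : F} (hβ : β ≠ 0) (hlam : lam ∈ K) (h0 : lam ≠ 0)
    (h1 : lam ≠ 1)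
    (hfam : ∀ μ ∈ K, Tr P (Pi.single i 1) ((μ * μ) • Pi.single j 1 + (μ * β) • Pi.single 2 1))
    (hall : ∀ φ, Tr P (Pi.single i 1) φ → ∃ μ ∈ K, φ = (μ * μ) • Pi.single j 1 + (μ * β) • Pi.single 2 1)
    {x ξ : Vec} (hξ : ξ ≠ 0) (hx : Tr P x ξ) (hx2 : x 2 = β⁻¹) : x j = 0 := by
  set b := x j with hb
  set Φ : F → Vec := fun μ => (μ * μ) • Pi.single j 1 + (μ * β) • Pi.single 2 1 with hΦ
  have hval : ∀ μ, Φ μ ⬝ᵥ x = μ * μ * b + μ := fun μ => by
    simp only [hΦ, add_dotProduct, smul_dotProduct, single_dotProduct, one_mul, smul_eq_mul, hx2, mul_assoc,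
      mul_inv_cancel₀ hβ, mul_one]
    rw [hb]
  have hu : (Pi.single i 1 : Vec) ≠ 0 := by simp
  have hxne : ∀ c : F, x ≠ c • Pi.single i 1 := fun c e => by
    have := congrFun e 2
    simp [hx2, Pi.single_eq_of_ne hi.symm] at this
    exact hβ this
  have hΦ0 : ∀ μ, μ ≠ 0 → Φ μ ≠ 0 := fun μ hμ e => by
    have := congrFun e 2
    simp [hΦ, Pi.single_eq_of_ne hj.symm, hμ, hβ] at this
  have hx0 : x ≠ 0 := fun e => by simp [e, eq_comm, hβ] at hx2
  have hoff : ∀ μ ∈ K, μ ≠ 0 → μ * μ * b + μ ≠ 0 := fun μ hμ hμ0 => by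
    rw [← hval]
    exact off_axis hc hu (hΦ0 μ hμ0) hx0 hξ (hfam μ hμ) hx hxne
  set C := b + 1 with hC
  have hC0 : C ≠ 0 := by simpa [hC] using hoff 1 (one_mem K) one_ne_zero
  have hval' : ∀ μ, Φ μ ⬝ᵥ (C⁻¹ • x) = C⁻¹ * (μ * μ * b + μ) := fun μ => by
    rw [dotProduct_smul, hval, smul_eq_mul]
  obtain ⟨K', hK'⟩ := value_field hP hc (w := C⁻¹ • x) hu
    (fun c e => hxne (C * c) (by rw [mul_smul, ← e, smul_smul, mul_inv_cancel₀ hC0, one_smul]))
    (ψ := C⁻¹⁻¹ • ξ) (smul_ne_zero (inv_ne_zero (inv_ne_zero hC0)) hξ) (hx.smul_centre (inv_ne_zero hC0))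
    (hfam 1 (one_mem K)) (by rw [hval', one_mul, one_mul, ← hC, inv_mul_cancel₀ hC0])
    (hfam lam hlam) (by rw [hval']; exact mul_ne_zero (inv_ne_zero hC0) (hoff lam hlam h0)) (fun e => by
      rw [hval', inv_mul_eq_iff_eq_mul₀ hC0, mul_one, hC] at e
      refine hoff (lam + 1) (add_mem hlam (one_mem K)) (fun h => h1 ?_) ?_
      · linear_combination h - (two_zero (F := F))
      · linear_combination e + ((b + 1) + lam * b) * (two_zero (F := F)))
  have hmem : ∀ μ ∈ K, C⁻¹ * (μ * μ * b + μ) ∈ K' := fun μ hμ => (hK' _).1 ⟨Φ μ, hfam μ hμ, hval' μ⟩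
  have hcard : Nat.card K = Nat.card K' := by
    refine Nat.card_eq_of_bijective (fun μ : K => (⟨C⁻¹ * (μ * μ * b + μ), hmem μ μ.2⟩ : K')) ⟨fun μ ν e => ?_, fun c => ?_⟩
    · have e' := congrArg Subtype.val e
      simp only [mul_eq_mul_left_iff, inv_eq_zero, hC0, or_false] at e'
      by_contra hne
      refine hoff ((μ : F) + ν) (add_mem μ.2 ν.2) (fun h => hne (Subtype.ext ?_)) ?_
      · linear_combination h - (ν : F) * (two_zero (F := F))
      · linear_combination e' + ((μ : F) * ν * b + (ν : F) * ν * b + (ν : F)) * (two_zero (F := F))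
    · obtain ⟨φ, hφ, hφc⟩ := (hK' _).2 c.2
      obtain ⟨μ, hμ, rfl⟩ := hall φ hφ
      exact ⟨⟨μ, hμ⟩, Subtype.ext ((hval' μ).symm.trans hφc)⟩
  have heq : K' = K := SetLike.ext fun z => by
    rw [← Rep.subfield_pow_eq_iff, ← Rep.subfield_pow_eq_iff K, hcard]
  have hk := hmem lam hlam
  rw [heq] at hk
  set k := C⁻¹ * (lam * lam * b + lam) with hkdef
  have ek : lam * lam * b + lam = k * (b + 1) := by
    rw [hkdef, ← hC, inv_mul_eq_div, div_mul_cancel₀ _ hC0]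
  have hne : lam * lam - k ≠ 0 := fun h => by
    have hh : lam * (lam - 1) = 0 := by linear_combination h - ek + b * h
    rcases mul_eq_zero.1 hh with e | e
    · exact h0 e
    · exact h1 (sub_eq_zero.1 e)
  have hbK : b ∈ K := by
    have hb' : b = (k - lam) / (lam * lam - k) := by rw [eq_div_iff hne]; linear_combination ek
    rw [hb']
    exact K.div_mem (sub_mem hk hlam) (sub_mem (mul_mem hlam hlam) hk)
  by_contra hb0
  refine hoff b⁻¹ (inv_mem hbK) (inv_ne_zero hb0) ?_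
  rw [mul_assoc, inv_mul_cancel₀ hb0, mul_one, add_self]

set_option maxHeartbeats 2000000 in
/-- the contradiction in an adapted frame -/
theorem core (H : Frm P) (ht : Thin P) (hs : Spread P) {φ₁ φ₂ : Vec} (h1 : Tr P E0 φ₁) (e1 : φ₁ 1 = 1)
    (h2 : Tr P E0 φ₂) (a0 : φ₂ 1 ≠ 0) (a1 : φ₂ 1 ≠ 1) {h : GL3} (hh : h ∈ P)
    (hmat : (h : Mat) = diagonal ![φ₂ 1, (φ₂ 1)⁻¹, 1]) : False := by
  obtain ⟨K, hlam, hK, hmemS⟩ := line_field H h1 e1 h2 a0 a1
  set lam := φ₂ 1 with hlamdef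
  have hhg : h ∈ lineGrp P := ⟨hh, by rw [hmat]; funext i; fin_cases i <;> simp [vecMul_diagonal]⟩
  have hdiagS : ∀ {t : F}, t ∈ K → t ≠ 0 → ∃ g, ∃ hg : g ∈ lineGrp P,
      ((restr H.le ⟨g, hg⟩ : SL(2, F)) : Matrix (Fin 2) (Fin 2) F) = !![t, 0; 0, t⁻¹] := fun {t} ht' ht0 => by
    obtain ⟨⟨g, hg⟩, e⟩ := mul_mem (mul_mem (mul_mem (hmemS t ht').1 (hmemS _ (inv_mem ht')).2) (hmemS t ht').1)
      (mul_mem (mul_mem (hmemS 1 (one_mem K)).1 (hmemS 1 (one_mem K)).2) (hmemS 1 (one_mem K)).1)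
    exact ⟨g, hg, by rw [e, diag_prod ht0]⟩
  have hne1 : lam - 1 ≠ 0 := sub_ne_zero.2 a1
  have hne2 : lam⁻¹ - 1 ≠ 0 := sub_ne_zero.2 fun e => a1 (inv_eq_one.1 e)
  -- diagonal blocks have diagonal matrices
  have hdiag : ∀ {g : GL3} (hg : g ∈ lineGrp P) {t : F},
      ((restr H.le ⟨g, hg⟩ : SL(2, F)) : Matrix (Fin 2) (Fin 2) F) = !![t, 0; 0, t⁻¹] →
      (g : Mat) = diagonal ![t, t⁻¹, 1] := by
    intro g hg t e
    have hcomm : g * h = h * g := by
      refine congrArg Subtype.val (restr_injective H (a₁ := ⟨g, hg⟩ * ⟨h, hhg⟩) (a₂ := ⟨h, hhg⟩ * ⟨g, hg⟩)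
        (Subtype.ext ?_))
      rw [map_mul, map_mul, Matrix.SpecialLinearGroup.coe_mul, Matrix.SpecialLinearGroup.coe_mul, e, restr_coe]
      ext i j
      fin_cases i <;> fin_cases j <;> simp [hmat, Matrix.mul_apply, Fin.sum_univ_two] <;> ring
    have hm := congrArg Units.val hcomm
    rw [Units.val_mul, Units.val_mul, hmat] at hm
    have g02 : (g : Mat) 0 2 = 0 := by
      have := congrFun (congrFun hm 0) 2
      rw [Matrix.mul_diagonal, Matrix.diagonal_mul] at this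
      simp at this
      exact (mul_eq_zero.1 (show (g : Mat) 0 2 * (lam - 1) = 0 by linear_combination -this)).resolve_right hne1
    have g12 : (g : Mat) 1 2 = 0 := by
      have := congrFun (congrFun hm 1) 2
      rw [Matrix.mul_diagonal, Matrix.diagonal_mul] at this
      simp at this
      exact (mul_eq_zero.1 (show (g : Mat) 1 2 * (lam⁻¹ - 1) = 0 by linear_combination -this)).resolve_right hne2
    obtain ⟨g20, g21, g22⟩ := row_two hg
    rw [restr_coe] at e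
    have g00 : (g : Mat) 0 0 = t := by simpa using congrFun (congrFun e 0) 0
    have g01 : (g : Mat) 0 1 = 0 := by simpa using congrFun (congrFun e 0) 1
    have g10 : (g : Mat) 1 0 = 0 := by simpa using congrFun (congrFun e 1) 0
    have g11 : (g : Mat) 1 1 = t⁻¹ := by simpa using congrFun (congrFun e 1) 1
    ext i j
    fin_cases i <;> fin_cases j <;> simp [g00, g01, g02, g10, g11, g12, g20, g21, g22]
  -- the axes of the first centre
  set β := φ₁ 2 with hβdef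
  have h10 := axis_coord rfl h1
  have hfam : ∀ μ ∈ K, Tr P E0 ((μ * μ) • E1 + (μ * β) • E2) := by
    intro μ hμ
    rcases eq_or_ne μ 0 with rfl | hμ0
    · simpa using Trans.tr_zero _
    obtain ⟨g, hg, e⟩ := hdiagS hμ hμ0
    have hgm := hdiag hg e
    have htc := h1.conj hg.1
    have hgu : (g : Mat) *ᵥ E0 = μ • E0 := by
      rw [hgm]; funext i; fin_cases i <;> simp [mulVec_diagonal]
    rw [hgu] at htc
    have htc' := htc.swap hμ0
    convert htc' using 1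
    have hinj : Function.Injective fun v : Vec => v ᵥ* (g : Mat) := fun a b e => by
      have := congrArg (· ᵥ* ((g⁻¹ : GL3) : Mat)) e
      simpa [vecMul_vecMul] using this
    refine hinj ?_
    show _ ᵥ* (g : Mat) = (μ • φ₁ ᵥ* ((g⁻¹ : GL3) : Mat)) ᵥ* (g : Mat)
    rw [smul_vecMul, vecMul_vecMul, Units.inv_mul, vecMul_one, hgm]
    funext i
    fin_cases i <;> simp [vecMul_diagonal, h10, e1, ← hβdef]
  have hwnz : ∃ ψ : Vec, ψ ≠ 0 ∧ Tr P E1 ψ := H.ax1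
  obtain ⟨ψ, hψ, hψt⟩ := hwnz
  have hall : ∀ φ, Tr P E0 φ → ∃ μ ∈ K, φ = (μ * μ) • E1 + (μ * β) • E2 := by
    intro φ hφ
    obtain ⟨μ, hμ⟩ := FiniteField.isSquare_of_char_two (F := K)
      (ringChar.eq_iff.2 ((K.subtype.charP_iff_charP 2).2 inferInstance)) (⟨φ 1, (hK _).1 ⟨φ, hφ, rfl⟩⟩ : K)
    have hμ' : φ 1 = (μ : F) * μ := congrArg Subtype.val hμ
    refine ⟨μ, μ.2, ?_⟩
    by_contra hne
    have hsum := hφ.add (hfam μ μ.2)
    refine off_axis H.cen (u := E0) (w := E1) (by simp) (fun e => hne (funext fun i => ?_)) (by simp) hψ hsum hψt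
      (single_ne (by decide)) ?_
    · have := congrFun e i
      simp only [Pi.add_apply, Pi.zero_apply, Pi.smul_apply, smul_eq_mul] at this ⊢
      linear_combination this - ((μ : F) * μ * E1 i + (μ : F) * β * E2 i) * (two_zero (F := F))
    · simp [hμ', add_self]
  have hβ : β ≠ 0 := fun hβ0 => by
    have hl := hfam lam hlam
    have e : (lam * lam) • E1 + (lam * β) • E2 = (lam * lam) • φ₁ := by
      funext i; fin_cases i <;> simp [h10, e1, ← hβdef, hβ0]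
    rw [e] at hl
    rcases ht E0 φ₁ (lam * lam) (by simp) (fun h0 => by simp [h0] at e1) h1 hl with h0 | h0
    · exact a0 (mul_self_eq_zero.1 h0)
    · exact hne1 (mul_self_eq_zero.1 (show (lam - 1) * (lam - 1) = 0 by
        linear_combination h0 + (1 - lam) * (two_zero (F := F))))
  -- the swapping element
  obtain ⟨⟨n, hn⟩, en⟩ := mul_mem (mul_mem (hmemS 1 (one_mem K)).1 (hmemS 1 (one_mem K)).2) (hmemS 1 (one_mem K)).1
  have en' : ((restr H.le ⟨n, hn⟩ : SL(2, F)) : Matrix (Fin 2) (Fin 2) F) = !![0, 1; 1, 0] := by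
    rw [en]
    have := weyl_prod (F := F) (t := 1) one_ne_zero
    rw [inv_one] at this
    exact this
  have hnm : (n : Mat) = !![0, 1, 0; 1, 0, 0; 0, 0, 1] := by
    have hrel : h * n * h = n := by
      refine congrArg Subtype.val (restr_injective H (a₁ := ⟨h, hhg⟩ * ⟨n, hn⟩ * ⟨h, hhg⟩) (a₂ := ⟨n, hn⟩)
        (Subtype.ext ?_))
      rw [map_mul, map_mul, Matrix.SpecialLinearGroup.coe_mul, Matrix.SpecialLinearGroup.coe_mul, en', restr_coe]
      ext i j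
      fin_cases i <;> fin_cases j <;> simp [hmat, Matrix.mul_apply, Fin.sum_univ_two, a0]
    have hm := congrArg Units.val hrel
    rw [Units.val_mul, Units.val_mul, hmat] at hm
    have n02 : (n : Mat) 0 2 = 0 := by
      have := congrFun (congrFun hm 0) 2
      rw [Matrix.mul_diagonal, Matrix.diagonal_mul] at this
      simp at this
      exact (mul_eq_zero.1 (show (n : Mat) 0 2 * (lam - 1) = 0 by linear_combination this)).resolve_right hne1
    have n12 : (n : Mat) 1 2 = 0 := by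
      have := congrFun (congrFun hm 1) 2
      rw [Matrix.mul_diagonal, Matrix.diagonal_mul] at this
      simp at this
      exact (mul_eq_zero.1 (show (n : Mat) 1 2 * (lam⁻¹ - 1) = 0 by linear_combination this)).resolve_right hne2
    obtain ⟨n20, n21, n22⟩ := row_two hn
    rw [restr_coe] at en'
    have n00 : (n : Mat) 0 0 = 0 := by simpa using congrFun (congrFun en' 0) 0
    have n01 : (n : Mat) 0 1 = 1 := by simpa using congrFun (congrFun en' 0) 1
    have n10 : (n : Mat) 1 0 = 1 := by simpa using congrFun (congrFun en' 1) 0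
    have n11 : (n : Mat) 1 1 = 0 := by simpa using congrFun (congrFun en' 1) 1
    ext i j
    fin_cases i <;> fin_cases j <;> simp [n00, n01, n02, n10, n11, n12, n20, n21, n22]
  have hninv : ((n⁻¹ : GL3) : Mat) = (n : Mat) := by
    rw [inv_eq_of_mul_eq_one_right (show n * n = 1 from Units.ext (by
      rw [Units.val_mul, hnm, Units.val_one]
      ext i j
      fin_cases i <;> fin_cases j <;> simp [Matrix.mul_apply, Fin.sum_univ_three]))]
  have nE0 : (n : Mat) *ᵥ E0 = E1 := by rw [hnm, mulVec_single_one]; funext i; fin_cases i <;> simp [Matrix.col]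
  have nE1 : (n : Mat) *ᵥ E1 = E0 := by rw [hnm, mulVec_single_one]; funext i; fin_cases i <;> simp [Matrix.col]
  have nrow : ∀ a b : F, (a • E1 + b • E2) ᵥ* (n : Mat) = a • E0 + b • E2 := fun a b => by
    rw [hnm]; funext i; fin_cases i <;> simp [Matrix.vecMul, dotProduct, Fin.sum_univ_three]
  have nrow' : ∀ a b : F, (a • E0 + b • E2) ᵥ* (n : Mat) = a • E1 + b • E2 := fun a b => by
    rw [hnm]; funext i; fin_cases i <;> simp [Matrix.vecMul, dotProduct, Fin.sum_univ_three]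
  have hfam1 : ∀ μ ∈ K, Tr P E1 ((μ * μ) • E0 + (μ * β) • E2) := fun μ hμ => by
    have := (hfam μ hμ).conj hn.1
    rwa [nE0, hninv, nrow] at this
  have hall1 : ∀ φ, Tr P E1 φ → ∃ μ ∈ K, φ = (μ * μ) • E0 + (μ * β) • E2 := fun φ hφ => by
    have h' := hφ.conj hn.1
    rw [nE1, hninv] at h'
    obtain ⟨μ, hμ, e⟩ := hall _ h'
    refine ⟨μ, hμ, ?_⟩
    have := congrArg (· ᵥ* (n : Mat)) e
    simp only [nrow] at this
    rw [← this, vecMul_vecMul, ← Units.val_mul]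
    nth_rw 1 [show n * n = 1 from Units.ext (by rw [Units.val_mul]; nth_rw 1 [← hninv]; rw [Units.inv_mul]; rfl)]
    rw [Units.val_one, vecMul_one]
  have key : ∀ x ξ : Vec, ξ ≠ 0 → Tr P x ξ → x 2 = β⁻¹ → x 0 = 0 ∧ x 1 = 0 := fun x ξ hξ hx hx2 =>
    ⟨coord_zero H.le H.cen (i := 1) (j := 0) (by decide) (by decide) (by decide) hβ hlam a0 a1 hfam1 hall1 hξ hx hx2,
     coord_zero H.le H.cen (i := 0) (j := 1) (by decide) (by decide) (by decide) hβ hlam a0 a1 hfam hall hξ hx hx2⟩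
  obtain ⟨g, hg, hg2⟩ := hs E0 E2 (by simp) (by simp)
  set x₀ := (g : Mat) *ᵥ E0 with hx₀
  have hx02 : x₀ 2 ≠ 0 := by simpa using hg2
  have hφ₁ : φ₁ ≠ 0 := fun h0 => by simp [h0] at e1
  have hc0 : (x₀ 2)⁻¹ * β⁻¹ ≠ 0 := mul_ne_zero (inv_ne_zero hx02) (inv_ne_zero hβ)
  have hxt := (h1.conj hg).smul_centre hc0
  rw [← hx₀] at hxt
  have hξ : ((x₀ 2)⁻¹ * β⁻¹)⁻¹ • φ₁ ᵥ* ((g⁻¹ : GL3) : Mat) ≠ 0 :=
    smul_ne_zero (inv_ne_zero hc0) (Trans.axis_ne_zero hφ₁)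
  set x := ((x₀ 2)⁻¹ * β⁻¹) • x₀ with hxdef
  have hx2 : x 2 = β⁻¹ := by
    rw [hxdef, Pi.smul_apply, smul_eq_mul, mul_right_comm, inv_mul_cancel₀ hx02, one_mul]
  obtain ⟨hxa, hxb⟩ := key x _ hξ hxt hx2
  obtain ⟨-, m, hm, hmx⟩ := id h1
  have hpush := hxt.conj hm
  rw [hmx x] at hpush
  have hφx : φ₁ ⬝ᵥ x = 1 := by
    rw [dotProduct, Fin.sum_univ_three, h10, e1, hxb, hx2, ← hβdef, mul_inv_cancel₀ hβ]; simp
  have := (key _ _ (Trans.axis_ne_zero hξ) hpush (by simp [hx2])).1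
  simp [hxa, hφx] at this

/-- there is no centre with two axes -/
theorem no_centre (hP : P ≤ Cfsg.Geo.specialLinear (Fin 3) F) (hs : Spread P) (ht : Thin P) (hc : CenHyp P)
    (h2 : ∃ u φ ψ : Vec, u ≠ 0 ∧ φ ≠ 0 ∧ ψ ≠ 0 ∧ ψ ≠ φ ∧ Tr P u φ ∧ Tr P u ψ) : False := by
  obtain ⟨u, φ, ψ, hu, hφ, hψ, hne, huφ, huψ⟩ := h2
  obtain ⟨g, hg, hgu⟩ := hs u φ hu hφ
  set w := (φ ⬝ᵥ ((g : Mat) *ᵥ u))⁻¹ • ((g : Mat) *ᵥ u) with hw
  have hwt := (huφ.conj hg).smul_centre (inv_ne_zero hgu)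
  rw [← hw] at hwt
  set ξ := (φ ⬝ᵥ ((g : Mat) *ᵥ u))⁻¹⁻¹ • φ ᵥ* ((g⁻¹ : GL3) : Mat)
  have hξ : ξ ≠ 0 := smul_ne_zero (inv_ne_zero (inv_ne_zero hgu)) (Trans.axis_ne_zero hφ)
  have hφw : φ ⬝ᵥ w = 1 := by rw [hw, dotProduct_smul, smul_eq_mul, inv_mul_cancel₀ hgu]
  have hwne : ∀ c : F, w ≠ c • u := fun c e => by
    rw [e, dotProduct_smul, huφ.1, smul_zero] at hφw
    exact zero_ne_one hφw
  have hw0 : w ≠ 0 := fun e => by simp [e] at hφw
  have hψw : ψ ⬝ᵥ w ≠ 0 := off_axis hc hu hψ hw0 hξ huψ hwt hwne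
  have hψw1 : ψ ⬝ᵥ w ≠ 1 := fun e => by
    refine off_axis hc hu (φ := φ + ψ) (fun h0 => hne ?_) hw0 hξ (huφ.add huψ) hwt hwne ?_
    · funext i
      have := congrFun h0 i
      simp only [Pi.add_apply, Pi.zero_apply] at this
      linear_combination this - (φ i) * (two_zero (F := F))
    · rw [add_dotProduct, hφw, e, add_self]
  obtain ⟨T, hTu, hTw⟩ := exists_frame_of_pair hu hwne
  have frame : ∀ S : GL3, (S : Mat) *ᵥ u = E0 → (S : Mat) *ᵥ w = E1 →
      Frm (Trans.conjg S P) ∧ Tr (Trans.conjg S P) E0 (φ ᵥ* ((S⁻¹ : GL3) : Mat)) ∧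
        Tr (Trans.conjg S P) E0 (ψ ᵥ* ((S⁻¹ : GL3) : Mat)) ∧ (φ ᵥ* ((S⁻¹ : GL3) : Mat)) 1 = 1 ∧
          (ψ ᵥ* ((S⁻¹ : GL3) : Mat)) 1 = ψ ⬝ᵥ w := fun S hSu hSw => by
    have hval : ∀ χ : Vec, (χ ᵥ* ((S⁻¹ : GL3) : Mat)) 1 = χ ⬝ᵥ w := fun χ => by
      rw [← dotProduct_single_one (χ ᵥ* _) 1, ← hSw, ← dotProduct_mulVec, Forms.Max.inv_mulVec_cancel]
    exact ⟨{ le := by
              rintro g ⟨x, hx, rfl⟩
              refine MonoidHom.mem_ker.2 ?_
              have := MonoidHom.mem_ker.1 (hP hx)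
              simp [this]
             cen := cen_conjg hc S
             ax0 := ⟨_, vecMul_ne_zero S⁻¹ hφ, hSu ▸ Trans.tr_conjg S huφ⟩
             ax1 := ⟨_, vecMul_ne_zero S⁻¹ hξ, hSw ▸ Trans.tr_conjg S hwt⟩ },
      hSu ▸ Trans.tr_conjg S huφ, hSu ▸ Trans.tr_conjg S huψ, (hval φ).trans hφw, hval ψ⟩
  obtain ⟨H, t1, t2, v1, v2⟩ := frame T hTu hTw
  obtain ⟨K, hlam, -, hmemS⟩ := line_field H t1 v1 t2 (v2 ▸ hψw) (v2 ▸ hψw1)
  rw [v2] at hlam
  set lam := ψ ⬝ᵥ w with hlamdef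
  obtain ⟨⟨h₀, hh₀⟩, e⟩ := mul_mem (mul_mem (mul_mem (hmemS lam hlam).1 (hmemS _ (inv_mem hlam)).2) (hmemS lam hlam).1)
    (mul_mem (mul_mem (hmemS 1 (one_mem K)).1 (hmemS 1 (one_mem K)).2) (hmemS 1 (one_mem K)).1)
  have e' : ((restr H.le ⟨h₀, hh₀⟩ : SL(2, F)) : Matrix (Fin 2) (Fin 2) F) = !![lam, 0; 0, lam⁻¹] := by
    rw [e, diag_prod hψw]
  rw [restr_coe] at e'
  obtain ⟨g20, g21, g22⟩ := row_two hh₀
  have g00 : (h₀ : Mat) 0 0 = lam := by simpa using congrFun (congrFun e' 0) 0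
  have g01 : (h₀ : Mat) 0 1 = 0 := by simpa using congrFun (congrFun e' 0) 1
  have g10 : (h₀ : Mat) 1 0 = 0 := by simpa using congrFun (congrFun e' 1) 0
  have g11 : (h₀ : Mat) 1 1 = lam⁻¹ := by simpa using congrFun (congrFun e' 1) 1
  have hne1 : 1 - lam ≠ 0 := sub_ne_zero.2 fun e => hψw1 e.symm
  have hne2 : 1 - lam⁻¹ ≠ 0 := sub_ne_zero.2 fun e => hψw1 (inv_eq_one.1 e.symm)
  obtain ⟨y0, hy0⟩ : ∃ y0, lam * y0 + (h₀ : Mat) 0 2 = y0 :=
    ⟨(h₀ : Mat) 0 2 / (1 - lam), by field_simp; ring⟩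
  obtain ⟨y1, hy1⟩ : ∃ y1, lam⁻¹ * y1 + (h₀ : Mat) 1 2 = y1 :=
    ⟨(h₀ : Mat) 1 2 / (1 - lam⁻¹), by field_simp; ring⟩
  let U : GL3 := GeneralLinearGroup.mkOfDetNeZero !![1, 0, y0; 0, 1, y1; 0, 0, 1] (by simp [det_fin_three])
  have hU : (U : Mat) = !![1, 0, y0; 0, 1, y1; 0, 0, 1] := rfl
  have hconj : ((U⁻¹ * h₀ * U : GL3) : Mat) = diagonal ![lam, lam⁻¹, 1] := by
    rw [Units.val_mul, Units.val_mul, mul_assoc]
    have : (h₀ : Mat) * (U : Mat) = (U : Mat) * diagonal ![lam, lam⁻¹, 1] := by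
      rw [hU]
      ext i j
      fin_cases i <;> fin_cases j <;>
        simp [Matrix.mul_apply, Fin.sum_univ_three, g00, g01, g10, g11, g20, g21, g22, hy0, hy1]
    rw [this, Units.inv_mul_cancel_left]
  have hU0 : (U : Mat) *ᵥ E0 = E0 := by rw [hU, mulVec_single_one]; funext i; fin_cases i <;> simp [Matrix.col]
  have hU1 : (U : Mat) *ᵥ E1 = E1 := by rw [hU, mulVec_single_one]; funext i; fin_cases i <;> simp [Matrix.col]
  obtain ⟨H', t1', t2', v1', v2'⟩ := frame (U⁻¹ * T)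
    (by rw [Forms.Max.mulVec_mul_GL, hTu]; nth_rw 1 [← hU0]; rw [Forms.Max.inv_mulVec_cancel])
    (by rw [Forms.Max.mulVec_mul_GL, hTw]; nth_rw 1 [← hU1]; rw [Forms.Max.inv_mulVec_cancel])
  refine core H' (thin_conjg ht _) (spread_conjg hs _) t1' v1' t2' (v2' ▸ hψw) (v2' ▸ hψw1)
    (h := U⁻¹ * h₀ * U) ?_ (by rw [hconj, v2'])
  have := Trans.conj_mem_conjg (T := U⁻¹) hh₀.1
  rwa [inv_inv, Trans.conjg_conjg] at this

end Cfsg.Agent.PSLThree.Even
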