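import Mathlib
import Cfsg.Agent.Lib.PSLThree.Small.Main
import Cfsg.Agent.Lib.Classical.GL2
import Cfsg.Agent.Lib.Classical.SmallIso

/-!
# A dihedral Sylow two-subgroup of order eight in characteristic two

Only `L₂(7)` and `A₆` occur.
-/

set_option autoImplicit false
set_option linter.unusedSectionVars false
set_option linter.style.haveILetI false

namespace Cfsg.Agent.PSLThree.Even

open Matrix
open Cfsg.Agent.PSLThree.Small

variable {F : Type*} [Field F] [Fintype F] {P : Subgroup (GL (Fin 3) F)}

/-- the simple groups with dihedral Sylow two-subgroups of order eight in characteristic two -/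
theorem eight_cases [CharP F 2] (hC : Core P) (S : Sylow 2 (Bar P))
    (hS : Nonempty ((S : Subgroup (Bar P)) ≃* DihedralGroup 4)) :
    (∃ (K : Type) (_ : Field K) (_ : Fintype K), Fintype.card K = 7 ∧
      Nonempty (Bar P ≃* Matrix.ProjectiveSpecialLinearGroup (Fin 2) K)) ∨
    Nonempty (Bar P ≃* ↥(alternatingGroup (Fin 6))) := by
  classical
  haveI := Fact.mk Nat.prime_two
  have hG := hC.le
  haveI : IsSimpleGroup (Bar P) := hC.simple
  haveI : Group.IsPerfect (Bar P) := by
    refine ⟨((inferInstance : (commutator (Bar P)).Normal).eq_bot_or_eq_top).resolve_left fun h => ?_⟩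
    exact hC.nonabelian ((commutator_eq_bot_iff _).1 h)
  have hn : 2 ≤ 4 := by norm_num
  have hSn := hS
  have hodd : Cfsg.oddCore (Bar P) = ⊥ := by
    refine le_bot_iff.1 (sSup_le fun N hN => ?_)
    rcases hN.1.eq_bot_or_eq_top with h | h
    · exact h.le
    · exfalso
      obtain ⟨e⟩ := hSn
      have h2 : 2 ∣ Nat.card N := by
        rw [h, Subgroup.card_top]
        refine dvd_trans ?_ (Subgroup.card_subgroup_dvd_card (S : Subgroup (Bar P)))
        rw [Nat.card_congr e.toEquiv, DihedralGroup.nat_card]
        exact dvd_mul_right _ _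
      have := Nat.dvd_gcd h2 (dvd_refl 2)
      rw [hN.2] at this
      exact absurd this (by norm_num)
  let eQ : Bar P ≃* Bar P ⧸ Cfsg.oddCore (Bar P) :=
    (QuotientGroup.quotientBot.symm).trans (QuotientGroup.quotientMulEquivOfEq hodd.symm)
  rcases S0483.result S 4 hn hSn with ⟨K, _, _, hKodd, hK3, ⟨e⟩⟩ | ⟨⟨e⟩⟩
  · let e' : Bar P ≃* Matrix.ProjectiveSpecialLinearGroup (Fin 2) K := eQ.trans e
    obtain ⟨B⟩ := exists_borel e'
    obtain ⟨l, hl⟩ := CharP.exists K
    obtain ⟨β, hlp, hcard⟩ := FiniteField.card K l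
    haveI := Fact.mk hlp
    have hlp' : l ≠ 2 := fun h => by
      subst h
      rw [hcard] at hKodd
      exact (Nat.not_odd_iff_even.2 ((Nat.even_pow' β.pos.ne').2 even_two)) hKodd
    rcases cross_card 2 hG hlp' hKodd hK3 B with h | h | h
    · -- five: no elements of order eight in the Sylow count
      exfalso
      obtain ⟨eS⟩ := hS
      have h8 := Subgroup.card_subgroup_dvd_card (S : Subgroup (Bar P))
      rw [Nat.card_congr eS.toEquiv, DihedralGroup.nat_card, Nat.card_congr e'.toEquiv] at h8
      have h60 := Classical.SmallIso.natCard_pslTwo K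
      rw [Classical.GL2.natCard_SL_two, h] at h60
      norm_num at h60 h8
      omega
    · exact Or.inl ⟨K, inferInstance, inferInstance, h, ⟨e'⟩⟩
    · obtain ⟨e6⟩ := S0254.result h
      exact Or.inr ⟨e'.trans e6⟩
  · -- the alternating group of degree seven
    exfalso
    let φ := (eQ.trans e).symm
    obtain ⟨a, b, t, x, k, -, -, -, -, -, -, -, -, -, hx, hx1, hk⟩ := alt_seven_elements
    have hne : ∀ {y : alternatingGroup (Fin 7)}, y ≠ 1 → φ y ≠ 1 := fun hy h => hy
      (φ.injective (h.trans (map_one φ).symm))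
    have h5 := char_five_of_square hG (x := φ x) (k := φ k) (by rw [← map_pow, hx, map_one]) (hne hx1)
      (by rw [← map_inv, ← map_mul, ← map_mul, hk, map_pow])
    have := prime_of_cast (p := 2) Nat.prime_two (show Nat.Prime 5 by norm_num) h5
    omega

end Cfsg.Agent.PSLThree.Even
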