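import Mathlib
import Cfsg.Agent.Lib.PSLThree.Even.Basic
import Cfsg.Agent.Lib.PGroups.WreathD8.Model

/-!
# Thin two-groups with transvections sharing an axis and transvections sharing a centre

Such a group is dihedral of order eight.
-/

set_option autoImplicit false
set_option linter.unusedSectionVars false
set_option linter.unusedVariables false
set_option linter.style.haveILetI false

namespace Cfsg.Agent.PSLThree.Even

open Matrix
open Cfsg.Agent.Forms (Max.gl_ext)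
open Cfsg.Agent.Forms.Max.SL3.Singer (Tr)

variable {F : Type*} [Field F] [Fintype F] [CharP F 2]

local notation "GL3" => GL (Fin 3) F
local notation "Mat" => Matrix (Fin 3) (Fin 3) F
local notation "Vec" => Fin 3 → F

theorem thin_mono {S P : Subgroup GL3} (h : S ≤ P) (ht : Thin P) : Thin S :=
  fun u φ c hu hφ h1 h2 => ht u φ c hu hφ ⟨h1.1, h1.2.choose, h h1.2.choose_spec.1, h1.2.choose_spec.2⟩
    ⟨h2.1, h2.2.choose, h h2.2.choose_spec.1, h2.2.choose_spec.2⟩

/-- two transvections with the same axis -/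
theorem tr_add_axis {S : Subgroup GL3} {u w φ : Vec} (h : Tr S u φ) (h' : Tr S w φ) : Tr S (u + w) φ := by
  obtain ⟨h0, m, hm, e⟩ := h
  obtain ⟨h0', n, hn, e'⟩ := h'
  refine ⟨by rw [dotProduct_add, h0, h0', add_zero], m * n, mul_mem hm hn, fun x => ?_⟩
  rw [Forms.Max.mulVec_mul_GL, e', e, dotProduct_add, dotProduct_smul, h0', smul_zero, add_zero]
  module

/-- two functionals killing two independent vectors -/
theorem two_functionals {φ ψ a b : Vec} (hφ : φ ≠ 0) (ha : a ≠ 0) (hb : ∀ c : F, b ≠ c • a)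
    (h1 : φ ⬝ᵥ a = 0) (h2 : φ ⬝ᵥ b = 0) (h3 : ψ ⬝ᵥ a = 0) (h4 : ψ ⬝ᵥ b = 0) : ∃ c : F, ψ = c • φ :=
  Forms.Max.SL3.Singer.Thin.prop_of_two hφ ha hb h1 h2 h3 h4

/-- two vectors killed by two independent functionals -/
theorem two_vectors {φ ψ a b : Vec} (ha : a ≠ 0) (hφ : φ ≠ 0) (hψ : ∀ c : F, ψ ≠ c • φ)
    (h1 : φ ⬝ᵥ a = 0) (h2 : φ ⬝ᵥ b = 0) (h3 : ψ ⬝ᵥ a = 0) (h4 : ψ ⬝ᵥ b = 0) : ∃ c : F, b = c • a :=
  Forms.Max.SL3.Singer.Thin.prop_of_two ha hφ hψ (by rwa [dotProduct_comm]) (by rwa [dotProduct_comm])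
    (by rwa [dotProduct_comm]) (by rwa [dotProduct_comm])

/-- a two-group fixes a non-zero vector -/
theorem exists_fix {S : Subgroup GL3} (hS : IsPGroup 2 S) :
    ∃ e : Vec, e ≠ 0 ∧ ∀ g ∈ S, (g : Mat) *ᵥ e = e := by
  letI : MulAction S Vec :=
    { smul := fun g x => ((g : GL3) : Mat) *ᵥ x
      one_smul := fun x => by show ((1 : GL3) : Mat) *ᵥ x = x; rw [Units.val_one, one_mulVec]
      mul_smul := fun a b x => Forms.Max.mulVec_mul_GL (a : GL3) b x }
  haveI : Fact (Nat.Prime 2) := ⟨Nat.prime_two⟩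
  have hdvd : 2 ∣ Nat.card Vec := by
    obtain ⟨n, -, hn⟩ := FiniteField.card F 2
    rw [Nat.card_eq_fintype_card, Fintype.card_fun, Fintype.card_fin, hn, ← pow_mul]
    exact dvd_pow_self 2 (by simp [n.pos.ne'])
  obtain ⟨e, he, hne⟩ := hS.exists_fixed_point_of_prime_dvd_card_of_fixed_point Vec hdvd
    (a := 0) (fun g => mulVec_zero _)
  exact ⟨e, fun h => hne h.symm, fun g hg => he ⟨g, hg⟩⟩

variable {S : Subgroup (GL (Fin 3) F)}

/-- both flags of the group -/
theorem fixed_of_pairs (hS : IsPGroup 2 S) {u w φ x χ χ' : Vec}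
    (hu : u ≠ 0) (hw : ∀ c : F, w ≠ c • u) (hφ : φ ≠ 0) (hA : Tr S u φ) (hA' : Tr S w φ)
    (hx : x ≠ 0) (hχ : χ ≠ 0) (hχ' : ∀ c : F, χ' ≠ c • χ) (hB : Tr S x χ) (hB' : Tr S x χ') :
    ∀ g ∈ S, (g : Mat) *ᵥ x = x ∧ φ ᵥ* (g : Mat) = φ := by
  obtain ⟨e, he, hfe⟩ := exists_fix hS
  obtain ⟨ε, hε, hfε⟩ := exists_fix (hS.map contra)
  have hw0 : w ≠ 0 := fun h => hw 0 (by rw [h, zero_smul])
  have hχ0 : χ' ≠ 0 := fun h => hχ' 0 (by rw [h, zero_smul])
  have key : ∀ {a α : Vec}, a ≠ 0 → α ≠ 0 → Tr S a α → α ⬝ᵥ e = 0 ∧ ε ⬝ᵥ a = 0 := by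
    intro a α ha hα h
    constructor
    · obtain ⟨-, m, hm, em⟩ := h
      have h1 := em e
      rw [hfe m hm, left_eq_add, smul_eq_zero] at h1
      exact h1.resolve_right ha
    · obtain ⟨-, m, hm, em⟩ := tr_contra h
      have h1 := em ε
      rw [hfε m hm, left_eq_add, smul_eq_zero] at h1
      rw [dotProduct_comm]
      exact h1.resolve_right hα
  obtain ⟨c, hc⟩ := two_functionals hφ hu hw hA.1 hA'.1 (key hu hφ hA).2 (key hw0 hφ hA').2
  obtain ⟨d, hd⟩ := two_vectors hx hχ hχ' hB.1 (key hx hχ hB).1 hB'.1 (key hx hχ0 hB').1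
  have hc0 : c ≠ 0 := fun h => hε (by rw [hc, h, zero_smul])
  have hd0 : d ≠ 0 := fun h => he (by rw [hd, h, zero_smul])
  intro g hg
  constructor
  · have h1 := hfe g hg
    rw [hd, mulVec_smul] at h1
    exact smul_right_injective _ hd0 h1
  · have h1 := hfε _ ⟨g⁻¹, inv_mem hg, rfl⟩
    rw [coe_contra, inv_inv, mulVec_transpose, hc, smul_vecMul] at h1
    exact smul_right_injective _ hc0 h1

/-- a thin two-group with both kinds of pairs is dihedral of order eight -/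
theorem dihedral_of_pairs (hS : IsPGroup 2 S) (hthin : Thin S) {u w φ x χ χ' : Vec}
    (hu : u ≠ 0) (hw : ∀ c : F, w ≠ c • u) (hφ : φ ≠ 0) (hA : Tr S u φ) (hA' : Tr S w φ)
    (hx : x ≠ 0) (hχ : χ ≠ 0) (hχ' : ∀ c : F, χ' ≠ c • χ) (hB : Tr S x χ) (hB' : Tr S x χ') :
    Nonempty (S ≃* DihedralGroup 4) := by
  classical
  have hfix := fixed_of_pairs hS hu hw hφ hA hA' hx hχ hχ' hB hB'
  -- the common point is on the common axis
  have hφx : φ ⬝ᵥ x = 0 := by
    obtain ⟨-, m, hm, em⟩ := hA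
    have h1 := em x
    rw [(hfix m hm).1, left_eq_add, smul_eq_zero] at h1
    exact h1.resolve_right hu
  obtain ⟨a, hau, hAa, hax⟩ : ∃ a : Vec, a ≠ 0 ∧ Tr S a φ ∧ ∀ c : F, a ≠ c • x := by
    by_cases h : ∃ c : F, u = c • x
    · refine ⟨w, fun h0 => hw 0 (by rw [h0, zero_smul]), hA', fun c hc => ?_⟩
      obtain ⟨d, hd⟩ := h
      have hd0 : d ≠ 0 := fun h0 => hu (by rw [hd, h0, zero_smul])
      exact hw (c * d⁻¹) (by rw [hd, smul_smul, mul_assoc, inv_mul_cancel₀ hd0, mul_one, hc])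
    · exact ⟨u, hu, hA, fun c hc => h ⟨c, hc⟩⟩
  obtain ⟨β, hβ0, hBb, hβφ⟩ : ∃ β : Vec, β ≠ 0 ∧ Tr S x β ∧ ∀ c : F, β ≠ c • φ := by
    by_cases h : ∃ c : F, χ = c • φ
    · refine ⟨χ', fun h0 => hχ' 0 (by rw [h0, zero_smul]), hB', fun c hc => ?_⟩
      obtain ⟨d, hd⟩ := h
      have hd0 : d ≠ 0 := fun h0 => hχ (by rw [hd, h0, zero_smul])
      exact hχ' (c * d⁻¹) (by rw [hd, smul_smul, mul_assoc, inv_mul_cancel₀ hd0, mul_one, hc])
    · exact ⟨χ, hχ, hB, fun c hc => h ⟨c, hc⟩⟩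
  have hφa := hAa.1
  have hβx := hBb.1
  set c₀ := β ⬝ᵥ a with hc₀
  have hc₀0 : c₀ ≠ 0 := fun h => by
    obtain ⟨c, hc⟩ := two_functionals hφ hx hax hφx hφa hβx h
    exact hβφ c hc
  have hZ : Tr S x (c₀ • φ) := hBb.comm hAa hφx
  have hnz : c₀ • φ ≠ 0 := smul_ne_zero hc₀0 hφ
  have hsmall : ∀ b : F, Tr S x (b • φ) → b = 0 ∨ b = c₀ := fun b hb => by
    have hb' : Tr S x ((b / c₀) • (c₀ • φ)) := by rwa [smul_smul, div_mul_cancel₀ _ hc₀0]
    rcases hthin x (c₀ • φ) _ hx hnz hZ hb' with h | h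
    · exact Or.inl ((div_eq_zero_iff.1 h).resolve_right hc₀0)
    · exact Or.inr ((div_eq_one_iff_eq hc₀0).1 h)
  have inv_fix : ∀ g ∈ S, φ ᵥ* ((g⁻¹ : GL3) : Mat) = φ := fun g hg => (hfix _ (inv_mem hg)).2
  -- every conjugate of `a` is `a` or its translate
  have haIm : ∀ g ∈ S, (g : Mat) *ᵥ a = a ∨ (g : Mat) *ᵥ a = a + c₀ • x := by
    intro g hg
    have hga : Tr S ((g : Mat) *ᵥ a) φ := by
      have := hAa.conj hg
      rwa [inv_fix g hg] at this
    have hne : β ⬝ᵥ ((g : Mat) *ᵥ a) ≠ 0 := fun h => by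
      have hnx : ∀ c : F, (g : Mat) *ᵥ a ≠ c • x := fun c hc => hax c (Forms.Max.mulVec_inj g (by
        rw [hc, mulVec_smul, (hfix g hg).1]))
      obtain ⟨c, hc⟩ := two_functionals hφ hx hnx hφx hga.1 hβx h
      exact hβφ c hc
    have hval : β ⬝ᵥ ((g : Mat) *ᵥ a) = c₀ :=
      (hsmall _ (hBb.comm hga hφx)).resolve_left hne
    have hsum := tr_add_axis hAa hga
    have hk : β ⬝ᵥ (a + (g : Mat) *ᵥ a) = 0 := by
      rw [dotProduct_add, hval, ← hc₀, add_self]
    obtain ⟨b, hb⟩ := two_vectors hx hφ hβφ hφx hsum.1 hβx hk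
    have h2 : ∀ v : Vec, v + v = 0 := fun v => funext fun i => add_self (v i)
    have e : (g : Mat) *ᵥ a = a + b • x := by rw [← hb, ← add_assoc, h2, zero_add]
    rcases eq_or_ne b 0 with h0 | h0
    · exact Or.inl (by rw [e, h0, zero_smul, add_zero])
    · rw [hb] at hsum
      rcases hsmall b (hsum.swap h0) with h | h
      · exact absurd h h0
      · exact Or.inr (by rw [e, h])
  -- every image of `β` is `β` or its translate
  have hbIm : ∀ g ∈ S, β ᵥ* (g : Mat) = β ∨ β ᵥ* (g : Mat) = β + c₀ • φ := by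
    intro g hg
    have hgb : Tr S x (β ᵥ* (g : Mat)) := by
      have := hBb.conj (inv_mem hg)
      rwa [inv_inv, (hfix _ (inv_mem hg)).1] at this
    have hval : (β ᵥ* (g : Mat)) ⬝ᵥ a = c₀ := by
      rw [← dotProduct_mulVec]
      rcases haIm g hg with h | h <;> rw [h]
      rw [dotProduct_add, dotProduct_smul, hβx, smul_zero, add_zero]
    have hk : (β + β ᵥ* (g : Mat)) ⬝ᵥ a = 0 := by rw [add_dotProduct, hval, ← hc₀, add_self]
    have hsum := hBb.add hgb
    obtain ⟨b, hb⟩ := two_functionals hφ hx hax hφx hφa hsum.1 hk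
    have h2 : ∀ v : Vec, v + v = 0 := fun v => funext fun i => add_self (v i)
    have e : β ᵥ* (g : Mat) = β + b • φ := by rw [← hb, ← add_assoc, h2, zero_add]
    rw [hb] at hsum
    rcases hsmall b hsum with h | h
    · exact Or.inl (by rw [e, h, zero_smul, add_zero])
    · exact Or.inr (by rw [e, h])
  have hker : ∀ g ∈ S, (g : Mat) *ᵥ a = a → β ᵥ* (g : Mat) = β →
      (g : Mat) = 1 ∨ (g : Mat) = 1 + vecMulVec x (c₀ • φ) := by
    intro g hg ha hb
    have hv : ∀ v : Vec, ∃ t : F, (g : Mat) *ᵥ v - v = t • x := fun v => by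
      refine two_vectors hx hφ hβφ hφx ?_ hβx ?_
      · rw [dotProduct_sub, dotProduct_mulVec, (hfix g hg).2, sub_self]
      · rw [dotProduct_sub, dotProduct_mulVec, hb, sub_self]
    choose t ht using hv
    have htl : ∀ v, t v = (fun i => t (Pi.single i 1)) ⬝ᵥ v := fun v => by
      refine smul_left_injective F hx ?_
      show t v • x = _ • x
      rw [← ht, dotProduct, Finset.sum_smul]
      conv_lhs => rw [pi_eq_sum_univ' v]
      rw [mulVec_sum, ← Finset.sum_sub_distrib]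
      refine Finset.sum_congr rfl fun i _ => ?_
      rw [mulVec_smul, ← smul_sub, ht, smul_smul, mul_comm]
    set τ : Vec := fun i => t (Pi.single i 1)
    have hgx : ∀ v, (g : Mat) *ᵥ v = v + (τ ⬝ᵥ v) • x := fun v => by rw [← htl, ← ht]; abel
    have hτ : (g : Mat) = 1 + vecMulVec x τ := Matrix.ext_iff_mulVec.2 fun v => by
      rw [hgx, add_mulVec, one_mulVec, vecMulVec_mulVec, op_smul_eq_smul]
    have htx : τ ⬝ᵥ x = 0 := by
      have h1 := hgx x
      rw [(hfix g hg).1, left_eq_add, smul_eq_zero] at h1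
      exact h1.resolve_right hx
    have hta : τ ⬝ᵥ a = 0 := by
      have h1 := hgx a
      rw [ha, left_eq_add, smul_eq_zero] at h1
      exact h1.resolve_right hx
    obtain ⟨b, hb'⟩ := two_functionals hφ hx hax hφx hφa htx hta
    rcases hsmall b ⟨by rw [smul_dotProduct, hφx, smul_zero], g, hg, fun v => by rw [hgx, hb']⟩ with h | h
    · exact Or.inl (by rw [hτ, hb', h, zero_smul, vecMulVec_zero, add_zero])
    · exact Or.inr (by rw [hτ, hb', h])
  -- at most eight elements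
  have hcard : Nat.card S ≤ 8 := by
    let Ψ : S → Vec × Vec := fun g =>
      (((g : GL3) : Mat) *ᵥ a, β ᵥ* (((g : GL3)⁻¹ : GL3) : Mat))
    have himg : Finset.univ.image Ψ ⊆ ({a, a + c₀ • x} : Finset Vec) ×ˢ {β, β + c₀ • φ} := by
      intro y hy
      obtain ⟨g, -, rfl⟩ := Finset.mem_image.1 hy
      refine Finset.mem_product.2 ⟨?_, ?_⟩
      · rcases haIm _ g.2 with h | h <;> simp [Ψ, h]
      · rcases hbIm _ (inv_mem g.2) with h | h <;> simp only [Ψ] <;> rw [h] <;> simp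
    have hfib : ∀ y ∈ Finset.univ.image Ψ, (Finset.univ.filter fun g => Ψ g = y).card ≤ 2 := by
      intro y hy
      obtain ⟨g₀, -, rfl⟩ := Finset.mem_image.1 hy
      refine (Finset.card_le_card_of_injOn
        (t := ({1, 1 + vecMulVec x (c₀ • φ)} : Finset Mat))
        (fun g : S => (((g₀⁻¹ * g : S) : GL3) : Mat)) ?_ ?_).trans Finset.card_le_two
      · intro g hg
        obtain ⟨h1, h2⟩ := Prod.mk.inj (Finset.mem_filter.1 hg).2
        have h1' : (((g₀⁻¹ * g : S) : GL3) : Mat) *ᵥ a = a := by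
          rw [Subgroup.coe_mul, Forms.Max.mulVec_mul_GL, h1, Subgroup.coe_inv, Forms.Max.inv_mulVec_cancel]
        have h2' : β ᵥ* (((g₀⁻¹ * g : S) : GL3) : Mat) = β := by
          rw [Subgroup.coe_mul, Units.val_mul, ← vecMul_vecMul, Subgroup.coe_inv, ← h2, vecMul_vecMul,
            ← Units.val_mul, inv_mul_cancel, Units.val_one, vecMul_one]
        rcases hker _ (g₀⁻¹ * g).2 h1' h2' with h | h <;>
          simp only [Finset.coe_insert, Finset.coe_singleton, Set.mem_insert_iff, Set.mem_singleton_iff]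
        · exact Or.inl h
        · exact Or.inr h
      · intro g _ g' _ h
        exact mul_left_cancel (Subtype.ext (Units.ext h) : g₀⁻¹ * g = g₀⁻¹ * g')
    have h1 := Finset.card_le_mul_card_image (f := Ψ) Finset.univ 2 hfib
    have h2 := (Finset.card_le_card himg).trans
      (le_of_eq (Finset.card_product _ _))
    have h3 : ({a, a + c₀ • x} : Finset Vec).card * ({β, β + c₀ • φ} : Finset Vec).card ≤ 2 * 2 :=
      Nat.mul_le_mul Finset.card_le_two Finset.card_le_two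
    rw [Nat.card_eq_fintype_card, ← Finset.card_univ]
    omega
  -- the two generators
  obtain ⟨mA, hmA, -, hA2⟩ := exists_elem hAa
  obtain ⟨mB, hmB, -, hB2⟩ := exists_elem hBb
  obtain ⟨-, nA, hnA, eA⟩ := hAa
  obtain ⟨-, nB, hnB, eB⟩ := hBb
  have hnA2 : nA * nA = 1 := Forms.Max.gl_ext fun v => by
    rw [Forms.Max.mulVec_mul_GL, eA, eA, dotProduct_add, dotProduct_smul, hφa, smul_zero, add_zero, Units.val_one,
      one_mulVec, add_assoc, ← add_smul, add_self, zero_smul, add_zero]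
  have hnB2 : nB * nB = 1 := Forms.Max.gl_ext fun v => by
    rw [Forms.Max.mulVec_mul_GL, eB, eB, dotProduct_add, dotProduct_smul, hβx, smul_zero, add_zero, Units.val_one,
      one_mulVec, add_assoc, ← add_smul, add_self, zero_smul, add_zero]
  have hsq : ∀ v, (((nA * nB) * (nA * nB) : GL3) : Mat) *ᵥ v = v + (c₀ * (φ ⬝ᵥ v)) • x := fun v => by
    simp only [Forms.Max.mulVec_mul_GL, eA, eB, dotProduct_add, dotProduct_smul, hφx, hφa, hβx, ← hc₀,
      add_zero, smul_eq_mul, mul_zero]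
    funext i
    simp only [Pi.add_apply, Pi.smul_apply, smul_eq_mul]
    linear_combination (β ⬝ᵥ v * x i + φ ⬝ᵥ v * a i) * two_zero (F := F)
  have h4 : (nA * nB) ^ 4 = 1 := by
    rw [show (4 : ℕ) = 2 * 2 from rfl, pow_mul, pow_two, pow_two]
    refine Forms.Max.gl_ext fun v => ?_
    rw [Forms.Max.mulVec_mul_GL, hsq, hsq, dotProduct_add, dotProduct_smul, hφx, smul_zero, add_zero,
      Units.val_one, one_mulVec, add_assoc, ← add_smul, add_self, zero_smul, add_zero]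
  obtain ⟨f, hf0, hf1⟩ := PGroups.WreathD8.exists_dihedral_hom (G := S) (x := ⟨nA, hnA⟩) (y := ⟨nB, hnB⟩)
    (Subtype.ext hnA2) (Subtype.ext hnB2) (Subtype.ext h4)
  have hr : f (DihedralGroup.r 2) ≠ 1 := fun h => by
    rw [show (DihedralGroup.r 2 : DihedralGroup 4) =
      (DihedralGroup.sr 0 * DihedralGroup.sr 1) * (DihedralGroup.sr 0 * DihedralGroup.sr 1) from by decide,
      map_mul, map_mul, hf0, hf1] at h
    have h' : (nA * nB) * (nA * nB) = 1 := congrArg Subtype.val h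
    obtain ⟨v, hv⟩ : ∃ v : Vec, φ ⬝ᵥ v ≠ 0 := by
      by_contra! h0
      exact hφ (dotProduct_eq_zero φ h0)
    have h1 := hsq v
    rw [h', Units.val_one, one_mulVec, left_eq_add, smul_eq_zero, mul_eq_zero] at h1
    tauto
  have hinj : Function.Injective f := (injective_iff_map_eq_one f).2 fun d hd => by
    by_contra hne
    have hmin : ∀ d : DihedralGroup 4, d ≠ 1 → d = DihedralGroup.r 2 ∨
        ∃ h : DihedralGroup 4, d * h * d⁻¹ * h⁻¹ = DihedralGroup.r 2 := by decide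
    rcases hmin d hne with h | ⟨h', h⟩
    · exact hr (h ▸ hd)
    · exact hr (by rw [← h]; simp [hd])
  refine ⟨(MulEquiv.ofBijective f ⟨hinj, ?_⟩).symm⟩
  have h1 := Nat.card_le_card_of_injective f hinj
  rw [DihedralGroup.nat_card] at h1
  exact ((Nat.bijective_iff_injective_and_card f).2 ⟨hinj, by rw [DihedralGroup.nat_card]; omega⟩).2

end Cfsg.Agent.PSLThree.Even
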