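import Mathlib
import Cfsg.Agent.Lib.PSLThree.Even.Flag
import Cfsg.Agent.Lib.PSLThree.Basic.UnipFamily
import Cfsg.Agent.Lib.ZStar.Main
import Cfsg.Agent.Lib.SmallSimple.Basic
import Cfsg.Agent.S0205

/-!
# Thin transvections in characteristic two: the three possibilities
-/

set_option autoImplicit false
set_option linter.unusedSectionVars false
set_option linter.unusedVariables false
set_option linter.style.haveILetI false

namespace Cfsg.Agent.PSLThree.Even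

open Matrix
open scoped Pointwise
open Cfsg.Agent.Forms (Max.gl_ext)
open Cfsg.Agent.Forms.Max.SL3.Singer (Tr)

variable {F : Type*} [Field F] [Fintype F] [CharP F 2] {P : Subgroup (GL (Fin 3) F)}

local notation "GL3" => GL (Fin 3) F
local notation "Mat" => Matrix (Fin 3) (Fin 3) F
local notation "Vec" => Fin 3 → F
local notation "Sc" => Cfsg.Geo.scalars (Fin 3) F

/-- transvections commute only if each centre is on the other axis -/
theorem dot_of_commute {m n : GL3} {u φ w ψ : Vec} (hu : u ≠ 0) (hψ : ψ ≠ 0) (hφu : φ ⬝ᵥ u = 0)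
    (em : ∀ x, (m : Mat) *ᵥ x = x + (φ ⬝ᵥ x) • u) (en : ∀ x, (n : Mat) *ᵥ x = x + (ψ ⬝ᵥ x) • w)
    (h : m * n = n * m) : φ ⬝ᵥ w = 0 := by
  obtain ⟨v, hv⟩ : ∃ v : Vec, ψ ⬝ᵥ v ≠ 0 := by
    by_contra! h0
    exact hψ (dotProduct_eq_zero ψ h0)
  have h1 := congrArg (fun g : GL3 => (g : Mat) *ᵥ v) h
  simp only [Forms.Max.mulVec_mul_GL, em, en, dotProduct_add, dotProduct_smul, smul_eq_mul] at h1
  have h2 : ((ψ ⬝ᵥ v) * (φ ⬝ᵥ w)) • u = ((φ ⬝ᵥ v) * (ψ ⬝ᵥ u)) • w := by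
    linear_combination (norm := module) h1
  have h3 := congrArg (φ ⬝ᵥ ·) h2
  simp only [dotProduct_smul, hφu, smul_eq_mul, mul_zero] at h3
  rcases mul_eq_zero.1 h3.symm with h4 | h4
  · rw [h4, zero_smul, smul_eq_zero] at h2
    exact (mul_eq_zero.1 (h2.resolve_right hu)).resolve_left hv
  · exact h4

/-- a transvection element lies in a subgroup -/
theorem tr_intro {Q : Subgroup GL3} {m : GL3} {u φ : Vec} (h0 : φ ⬝ᵥ u = 0) (hm : m ∈ Q)
    (e : ∀ x, (m : Mat) *ᵥ x = x + (φ ⬝ᵥ x) • u) : Tr Q u φ := ⟨h0, m, hm, e⟩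

/-- commuting transvection elements -/
theorem comm_of_dot {m n : GL3} {u φ w ψ : Vec} (h1 : φ ⬝ᵥ w = 0) (h2 : ψ ⬝ᵥ u = 0)
    (em : ∀ x, (m : Mat) *ᵥ x = x + (φ ⬝ᵥ x) • u) (en : ∀ x, (n : Mat) *ᵥ x = x + (ψ ⬝ᵥ x) • w) :
    m * n = n * m := Forms.Max.gl_ext fun x => by
  simp only [Forms.Max.mulVec_mul_GL, em, en, dotProduct_add, dotProduct_smul, h1, h2, smul_zero, add_zero]
  abel

omit [CharP F 2] in
/-- two commuting involutions lie in a Sylow two-subgroup -/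
theorem exists_sylow {G : Type*} [Group G] [Finite G] {m n : G} (hm : m * m = 1) (hn : n * n = 1)
    (h : m * n = n * m) : ∃ T : Sylow 2 G, m ∈ T ∧ n ∈ T := by
  have hc : ∀ (a : Subgroup.zpowers m) (b : Subgroup.zpowers n),
      Commute ((Subgroup.zpowers m).subtype a) ((Subgroup.zpowers n).subtype b) := by
    rintro ⟨_, i, rfl⟩ ⟨_, j, rfl⟩
    exact (show Commute m n from h).zpow_zpow i j
  let f := MonoidHom.noncommCoprod (Subgroup.zpowers m).subtype (Subgroup.zpowers n).subtype hc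
  have hK : IsPGroup 2 f.range := by
    rintro ⟨_, ⟨⟨_, i, rfl⟩, ⟨_, j, rfl⟩⟩, rfl⟩
    refine ⟨1, Subtype.ext ?_⟩
    simp only [f, MonoidHom.noncommCoprod_apply, Subgroup.subtype_apply, SubmonoidClass.coe_pow, pow_one,
      OneMemClass.coe_one]
    rw [((show Commute m n from h).zpow_zpow i j).mul_pow, ← zpow_natCast, ← zpow_natCast, ← _root_.zpow_mul,
      ← _root_.zpow_mul, mul_comm i, mul_comm j, _root_.zpow_mul, _root_.zpow_mul, Nat.cast_ofNat, zpow_two,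
      zpow_two, hm, hn, _root_.one_zpow, _root_.one_zpow, one_mul]
  obtain ⟨T, hT⟩ := hK.exists_le_sylow
  refine ⟨T, hT ⟨(⟨m, Subgroup.mem_zpowers m⟩, 1), ?_⟩, hT ⟨(1, ⟨n, Subgroup.mem_zpowers n⟩), ?_⟩⟩ <;>
    simp [f]

/-- the transvections of a commuting pair inside a Sylow two-subgroup of the group -/
theorem pair_sylow {u φ w ψ : Vec} (h1 : Tr P u φ) (h2 : Tr P w ψ) (ha : φ ⬝ᵥ w = 0) (hb : ψ ⬝ᵥ u = 0) :
    ∃ T : Sylow 2 P, Tr ((T : Subgroup P).map P.subtype) u φ ∧ Tr ((T : Subgroup P).map P.subtype) w ψ := by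
  obtain ⟨hu, m, hm, em⟩ := h1
  obtain ⟨hw, n, hn, en⟩ := h2
  have sq : ∀ {g : GL3} {a α : Vec}, α ⬝ᵥ a = 0 → (∀ x, (g : Mat) *ᵥ x = x + (α ⬝ᵥ x) • a) → g * g = 1 :=
    fun {g a α} h0 e => Forms.Max.gl_ext fun x => by
      rw [Forms.Max.mulVec_mul_GL, e, e, dotProduct_add, dotProduct_smul, h0, smul_zero, add_zero, Units.val_one,
        one_mulVec, add_assoc, ← add_smul, add_self, zero_smul, add_zero]
  obtain ⟨T, hmT, hnT⟩ := exists_sylow (G := P) (m := ⟨m, hm⟩) (n := ⟨n, hn⟩) (Subtype.ext (sq hu em))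
    (Subtype.ext (sq hw en)) (Subtype.ext (comm_of_dot ha hb em en))
  exact ⟨T, tr_intro hu (Subgroup.mem_map_of_mem P.subtype hmT) em,
    tr_intro hw (Subgroup.mem_map_of_mem P.subtype hnT) en⟩

/-- moving a transvection to another Sylow subgroup -/
theorem tr_move (g : P) (T : Sylow 2 P) {u φ : Vec} (h : Tr ((T : Subgroup P).map P.subtype) u φ) :
    Tr (((g • T : Sylow 2 P) : Subgroup P).map P.subtype) (((g : GL3) : Mat) *ᵥ u)
      (φ ᵥ* (((g : GL3)⁻¹ : GL3) : Mat)) := by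
  obtain ⟨h0, _, ⟨m, hm, rfl⟩, e⟩ := h
  rw [Subgroup.coe_subtype] at e
  refine tr_intro ?_ (m := (g : GL3) * (m : GL3) * (g : GL3)⁻¹) ⟨g * m * g⁻¹, ?_, rfl⟩ fun x => ?_
  · rw [← dotProduct_mulVec, Forms.Max.inv_mulVec_cancel, h0]
  · rw [Sylow.coe_subgroup_smul]
    exact Subgroup.smul_mem_pointwise_smul m (MulAut.conj g) _ hm
  · rw [Forms.Max.mulVec_mul_GL, Forms.Max.mulVec_mul_GL, e, mulVec_add, mulVec_smul,
      Forms.Max.mulVec_inv_cancel, ← dotProduct_mulVec]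

/-- the failure of the common-centre property gives two centres on one axis -/
theorem axis_pair (h : ¬ CenHyp P) : ∃ u w φ : Vec, u ≠ 0 ∧ φ ≠ 0 ∧ (∀ c : F, w ≠ c • u) ∧
    Tr P u φ ∧ Tr P w φ := by
  simp only [CenHyp, not_forall, not_exists] at h
  obtain ⟨u, φ, w, ψ, hu, hφ, hw, hψ, h1, h2, h3, h4, hne⟩ := h
  obtain ⟨c, hc⟩ := two_functionals hφ hu hne h1.1 h3 h4 h2.1
  have hc0 : c ≠ 0 := fun h0 => hψ (by rw [hc, h0, zero_smul])
  refine ⟨u, c • w, φ, hu, hφ, fun d hd => hne (c⁻¹ * d) ?_, h1, (Trans.tr_scale hc0).2 (hc ▸ h2)⟩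
  rw [← smul_smul, ← hd, inv_smul_smul₀ hc0]

/-- the two kinds of pairs force a dihedral Sylow subgroup of order eight -/
theorem dihedral_of_not (hP : P ≤ Cfsg.Geo.specialLinear (Fin 3) F) (ht : Thin P) (hc : ¬ CenHyp P)
    (hc' : ¬ CenHyp (P.map contra)) (S : Sylow 2 (Bar P)) :
    Nonempty ((S : Subgroup (Bar P)) ≃* DihedralGroup 4) := by
  haveI : Fact (Nat.Prime 2) := ⟨Nat.prime_two⟩
  obtain ⟨u, w, φ, hu, hφ, hw, hA, hA'⟩ := axis_pair hc
  obtain ⟨χ, χ', x, hχ, hx, hχ', hB, hB'⟩ := axis_pair hc'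
  obtain ⟨T, hA, hA'⟩ := pair_sylow hA hA' hA'.1 hA.1
  obtain ⟨T', hB, hB'⟩ := pair_sylow (tr_contra_back hB) (tr_contra_back hB')
    (tr_contra_back hB).1 (tr_contra_back hB').1
  obtain ⟨g, hg⟩ := MulAction.exists_smul_eq P T' T
  have hB := tr_move g T' hB
  have hB' := tr_move g T' hB'
  rw [hg] at hB hB'
  have hle : (T : Subgroup P).map P.subtype ≤ P := Subgroup.map_subtype_le _
  obtain ⟨e⟩ := dihedral_of_pairs (T.isPGroup'.map P.subtype) (thin_mono hle ht) hu hw hφ hA hA'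
    (Forms.Max.mulVec_ne_zero _ hx) (vecMul_ne_zero _ hχ)
    (fun c h => hχ' c (vecMul_injective_of_isUnit ((g : GL3)⁻¹).isUnit (by
      show χ' ᵥ* _ = (c • χ) ᵥ* _
      rw [smul_vecMul]; exact h))) hB hB'
  let q := QuotientGroup.mk' ((Cfsg.Geo.scalars (Fin 3) F).subgroupOf P)
  have hinj : Function.Injective (q.subgroupMap (T : Subgroup P)) := (injective_iff_map_eq_one _).2 fun a ha => by
    have h1 : ((a : P) : Bar P) = 1 := congrArg Subtype.val ha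
    obtain ⟨k, hk⟩ := T.isPGroup' a
    have hs := (QuotientGroup.eq_one_iff (a : P)).1 h1
    rw [Subgroup.mem_subgroupOf] at hs
    refine Subtype.ext (Subtype.ext ?_)
    refine scalar_eq_one hP (n := 2 ^ k) (Nat.Coprime.pow_left k (by norm_num)) (a : P).2 hs ?_
    simpa using congrArg (fun y : (T : Subgroup P) => ((y : P) : GL3)) hk
  exact ⟨(Sylow.equiv S (T.mapSurjective (QuotientGroup.mk'_surjective _))).trans
    ((MulEquiv.ofBijective _ ⟨hinj, MonoidHom.subgroupMap_surjective q _⟩).symm.trans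
      ((Subgroup.equivMapOfInjective _ P.subtype (Subgroup.subtype_injective P)).trans e))⟩

/-- an involution of the simple image has a different commuting conjugate -/
theorem exists_commuting_bar (hC : Core P) :
    ∃ a b : Bar P, a ≠ 1 ∧ b ≠ 1 ∧ a ≠ b ∧ a * a = 1 ∧ b * b = 1 ∧ a * b = b * a := by
  haveI : IsSimpleGroup (Bar P) := hC.simple
  haveI : Fact (Nat.Prime 2) := ⟨Nat.prime_two⟩
  have heven : 2 ∣ Nat.card (Bar P) := by
    by_contra h2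
    haveI := S0205.result (G := Bar P) (Nat.odd_iff.2 (by omega))
    exact hC.nonabelian (IsSimpleGroup.comm_iff_isSolvable.2 ‹_› |> fun h => ⟨⟨h⟩⟩)
  obtain ⟨t, ht⟩ := exists_prime_orderOf_dvd_card' 2 heven
  have hO : Cfsg.oddCore (Bar P) = ⊥ := by
    refine (ZStar.Main.oddCore_normal (G := Bar P)).eq_bot_or_eq_top.resolve_right fun h0 => ?_
    have h1 := InvChar.Core.odd_card_oddCore (G := Bar P)
    rw [h0, Subgroup.card_top, Nat.odd_iff] at h1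
    omega
  by_contra hno
  have hiso : Cfsg.IsIsolatedInvolution t := ⟨ht, fun g hg => by
    by_contra hne
    have ht2 : t * t = 1 := by rw [← pow_two, ← ht, pow_orderOf_eq_one]
    have ht1 : t ≠ 1 := fun h => by rw [h, orderOf_one] at ht; norm_num at ht
    refine hno ⟨t, g * t * g⁻¹, ht1, fun h => ht1 ?_, fun h => hne h.symm, ht2, ?_, hg.eq⟩
    · simpa using h
    · rw [show g * t * g⁻¹ * (g * t * g⁻¹) = g * (t * t) * g⁻¹ by group, ht2, mul_one, mul_inv_cancel]⟩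
  have hc := ZStar.Main.mem_center_of_isolated hO hiso
  rw [SmallSimple.Basic.center_eq_bot hC.nonabelian, Subgroup.mem_bot] at hc
  rw [hc, orderOf_one] at ht
  norm_num at ht

/-- two different commuting transvections -/
theorem exists_commuting (hC : Core P) : ∃ u φ w ψ : Vec, u ≠ 0 ∧ φ ≠ 0 ∧ w ≠ 0 ∧ ψ ≠ 0 ∧
    Tr P u φ ∧ Tr P w ψ ∧ φ ⬝ᵥ w = 0 ∧ ψ ⬝ᵥ u = 0 ∧ vecMulVec u φ ≠ vecMulVec w ψ := by
  haveI : Fact (Nat.Prime 2) := ⟨Nat.prime_two⟩
  obtain ⟨a, b, ha1, hb1, hab, ha, hb, hcomm⟩ := exists_commuting_bar hC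
  obtain ⟨m, hm, hm2, rfl⟩ := exists_lift_char hC.le 2 (x := a) (by rw [pow_two, ha])
  obtain ⟨n, hn, hn2, rfl⟩ := exists_lift_char hC.le 2 (x := b) (by rw [pow_two, hb])
  have hmn : n * m * n⁻¹ = m := by
    refine lift_unique_char 2 (by rw [conj_pow, hm2, mul_one, mul_inv_cancel]) hm2 ?_
    refine (mk_eq (hg := mul_mem (mul_mem hn hm) (inv_mem hn)) (hh := hm)).1 ?_
    show ((⟨n, hn⟩ * ⟨m, hm⟩ * (⟨n, hn⟩ : P)⁻¹ : P) : Bar P) = _
    rw [QuotientGroup.mk_mul, QuotientGroup.mk_mul, QuotientGroup.mk_inv, ← hcomm, mul_inv_cancel_right]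
  have hcm : m * n = n * m := (mul_inv_eq_iff_eq_mul.1 hmn).symm
  rw [pow_two] at hm2 hn2
  obtain ⟨u, φ, hu, hφ, h1, e1⟩ := tr_of_invol hC.le hm hm2 fun h => ha1 (by subst h; exact QuotientGroup.mk_one _)
  obtain ⟨w, ψ, hw, hψ, h2, e2⟩ := tr_of_invol hC.le hn hn2 fun h => hb1 (by subst h; exact QuotientGroup.mk_one _)
  have act : ∀ {k : GL3} {z ζ : Vec}, (k : Mat) = 1 + vecMulVec z ζ →
      ∀ x, (k : Mat) *ᵥ x = x + (ζ ⬝ᵥ x) • z := fun {k z ζ} e x => by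
    rw [e, add_mulVec, one_mulVec, vecMulVec_mulVec, op_smul_eq_smul]
  refine ⟨u, φ, w, ψ, hu, hφ, hw, hψ, h1, h2, dot_of_commute hu hψ h1.1 (act e1) (act e2) hcm,
    dot_of_commute hw hφ h2.1 (act e2) (act e1) hcm.symm, fun h => hab ?_⟩
  have : m = n := Units.ext (by rw [e1, e2, h])
  subst this; rfl

/-- under the common-centre property some centre has two axes -/
theorem two_axes (hc : CenHyp P) {u φ w ψ : Vec} (hu : u ≠ 0) (hφ : φ ≠ 0) (hw : w ≠ 0) (hψ : ψ ≠ 0)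
    (h1 : Tr P u φ) (h2 : Tr P w ψ) (h3 : φ ⬝ᵥ w = 0) (h4 : ψ ⬝ᵥ u = 0)
    (hne : vecMulVec u φ ≠ vecMulVec w ψ) :
    ∃ u φ ψ : Vec, u ≠ 0 ∧ φ ≠ 0 ∧ ψ ≠ 0 ∧ ψ ≠ φ ∧ Tr P u φ ∧ Tr P u ψ := by
  obtain ⟨c, rfl⟩ := hc u φ w ψ hu hφ hw hψ h1 h2 h3 h4
  have hc0 : c ≠ 0 := fun h => hw (by rw [h, zero_smul])
  refine ⟨u, φ, c • ψ, hu, hφ, smul_ne_zero hc0 hψ, fun h => hne ?_, h1, h2.swap hc0⟩
  rw [← h, vecMulVec_smul, smul_vecMulVec]

/-- thin groups: common centres, common axes, or a dihedral Sylow subgroup of order eight -/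
theorem reduce (hC : Core P) (ht : Thin P) :
    (CenHyp P ∧ ∃ u φ ψ : Vec, u ≠ 0 ∧ φ ≠ 0 ∧ ψ ≠ 0 ∧ ψ ≠ φ ∧ Tr P u φ ∧ Tr P u ψ) ∨
    (CenHyp (P.map contra) ∧
      ∃ u φ ψ : Vec, u ≠ 0 ∧ φ ≠ 0 ∧ ψ ≠ 0 ∧ ψ ≠ φ ∧ Tr (P.map contra) u φ ∧ Tr (P.map contra) u ψ) ∨
    ∀ S : Sylow 2 (Bar P), Nonempty ((S : Subgroup (Bar P)) ≃* DihedralGroup 4) := by
  obtain ⟨u, φ, w, ψ, hu, hφ, hw, hψ, h1, h2, h3, h4, hne⟩ := exists_commuting hC
  by_cases hc : CenHyp P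
  · exact Or.inl ⟨hc, two_axes hc hu hφ hw hψ h1 h2 h3 h4 hne⟩
  by_cases hc' : CenHyp (P.map contra)
  · refine Or.inr (Or.inl ⟨hc', two_axes hc' hφ hu hψ hw (tr_contra h1) (tr_contra h2) ?_ ?_ fun h => hne ?_⟩)
    · rw [dotProduct_comm]; exact h4
    · rw [dotProduct_comm]; exact h3
    · rw [← transpose_vecMulVec φ u, h, transpose_vecMulVec]
  exact Or.inr (Or.inr (dihedral_of_not hC.le ht hc hc'))

end Cfsg.Agent.PSLThree.Even
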