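import Mathlib
import Cfsg.Agent.Lib.PSLThree.Even.Reduce
import Cfsg.Agent.Lib.PSLThree.Even.Centre
import Cfsg.Agent.Lib.PSLThree.Even.Eight

/-!
# Thin groups in characteristic two
-/

set_option autoImplicit false
set_option linter.unusedSectionVars false

namespace Cfsg.Agent.PSLThree.Even

open Matrix

variable {F : Type*} [Field F] [Fintype F] [CharP F 2] {P : Subgroup (GL (Fin 3) F)}

theorem contra_le_sl (hP : P ≤ Cfsg.Geo.specialLinear (Fin 3) F) :
    P.map contra ≤ Cfsg.Geo.specialLinear (Fin 3) F := by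
  rintro _ ⟨g, hg, rfl⟩
  refine MonoidHom.mem_ker.2 (Units.ext ?_)
  rw [GeneralLinearGroup.val_det_apply, Units.val_one]
  rw [coe_contra, det_transpose]
  exact det_eq_one hP (inv_mem hg)

/-- a core group of characteristic two with thin root groups is `L₂(7)` or `A₆` -/
theorem thin_cases (hC : Core P) (ht : Thin P) :
    (∃ (K : Type) (_ : Field K) (_ : Fintype K), Fintype.card K = 7 ∧
      Nonempty (Bar P ≃* Matrix.ProjectiveSpecialLinearGroup (Fin 2) K)) ∨
    Nonempty (Bar P ≃* ↥(alternatingGroup (Fin 6))) := by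
  rcases reduce hC ht with ⟨hc, h2⟩ | ⟨hc, h2⟩ | hD
  · exact (no_centre hC.le (spread_of_irred hC.irred) ht hc h2).elim
  · exact (no_centre (contra_le_sl hC.le) (spread_contra (spread_of_irred hC.irred)) (thin_contra ht) hc h2).elim
  · obtain ⟨S⟩ := (inferInstance : Nonempty (Sylow 2 (Bar P)))
    exact eight_cases hC S (hD S)

end Cfsg.Agent.PSLThree.Even
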